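import Cfsg.Agent.Helper28.Suz2.Data
set_option autoImplicit false
set_option maxRecDepth 1000000
namespace Cfsg.Agent.Helper28.Suz2
open Cfsg.Agent.Helper28
theorem fin_piece16 : allLtFrom (finRow tabs ptabs 156253) 11424 714 = true := by decide +kernel
theorem fin_piece17 : allLtFrom (finRow tabs ptabs 156253) 12138 714 = true := by decide +kernel
theorem fin_piece18 : allLtFrom (finRow tabs ptabs 156253) 12852 714 = true := by decide +kernel
theorem fin_piece19 : allLtFrom (finRow tabs ptabs 156253) 13566 714 = true := by decide +kernel
theorem fin_piece20 : allLtFrom (finRow tabs ptabs 156253) 14280 714 = true := by decide +kernel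
theorem fin_piece21 : allLtFrom (finRow tabs ptabs 156253) 14994 714 = true := by decide +kernel
theorem fin_piece22 : allLtFrom (finRow tabs ptabs 156253) 15708 714 = true := by decide +kernel
theorem fin_piece23 : allLtFrom (finRow tabs ptabs 156253) 16422 714 = true := by decide +kernel
end Cfsg.Agent.Helper28.Suz2
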