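import Cfsg.Agent.Helper28.Suz2.Data
set_option autoImplicit false
set_option maxRecDepth 1000000
namespace Cfsg.Agent.Helper28.Suz2
open Cfsg.Agent.Helper28
theorem defs_piece0 : allLtFrom (defOk tabs) 0 27647 = true := by decide +kernel
theorem par_piece0 : allLtFrom (parRow ptabs) 0 22880 = true := by decide +kernel
theorem subfix_ok : allLt (fun r => relOk ptabs (tabs.word r) 0 1) 6 = true := by decide +kernel
end Cfsg.Agent.Helper28.Suz2
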