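import Cfsg.Agent.Helper28.Suz2.Data
set_option autoImplicit false
set_option maxRecDepth 1000000
namespace Cfsg.Agent.Helper28.Suz2
open Cfsg.Agent.Helper28
theorem perm_piece_0_0 : permPiece tabs.word letL.get 1023 15 32767 6 1 0 22880 = true := by decide +kernel
theorem perm_piece_1_0 : permPiece tabs.word letL.get 1023 15 32767 7 1 0 6666 = true := by decide +kernel
theorem perm_piece_1_1 : permPiece tabs.word letL.get 1023 15 32767 7 1 6666 6666 = true := by decide +kernel
theorem perm_piece_1_2 : permPiece tabs.word letL.get 1023 15 32767 7 1 13332 6666 = true := by decide +kernel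
theorem perm_piece_1_3 : permPiece tabs.word letL.get 1023 15 32767 7 1 19998 2882 = true := by decide +kernel
theorem perm_piece_2_0 : permPiece tabs.word letL.get 1023 15 32767 8 1 0 16666 = true := by decide +kernel
theorem perm_piece_2_1 : permPiece tabs.word letL.get 1023 15 32767 8 1 16666 6214 = true := by decide +kernel
theorem perm_piece_3_0 : permPiece tabs.word letL.get 1023 15 32767 9 1 0 16666 = true := by decide +kernel
theorem perm_piece_3_1 : permPiece tabs.word letL.get 1023 15 32767 9 1 16666 6214 = true := by decide +kernel
theorem perm_piece_4_0 : permPiece tabs.word letL.get 1023 15 32767 10 1 0 16666 = true := by decide +kernel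
theorem perm_piece_4_1 : permPiece tabs.word letL.get 1023 15 32767 10 1 16666 6214 = true := by decide +kernel
end Cfsg.Agent.Helper28.Suz2
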