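import Cfsg.Agent.Helper28.Suz2.Data
set_option autoImplicit false
set_option maxRecDepth 1000000
namespace Cfsg.Agent.Helper28.Suz2
open Cfsg.Agent.Helper28
theorem perm_piece_47_2 : permPiece tabs.word letL.get 1023 15 32767 53 1 16666 6214 = true := by decide +kernel
theorem perm_piece_48_0 : permPiece tabs.word letL.get 1023 15 32767 54 1 0 22880 = true := by decide +kernel
theorem perm_piece_49_0 : permPiece tabs.word letL.get 1023 15 32767 55 1 0 7407 = true := by decide +kernel
theorem perm_piece_49_1 : permPiece tabs.word letL.get 1023 15 32767 55 1 7407 7407 = true := by decide +kernel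
theorem perm_piece_49_2 : permPiece tabs.word letL.get 1023 15 32767 55 1 14814 7407 = true := by decide +kernel
theorem perm_piece_49_3 : permPiece tabs.word letL.get 1023 15 32767 55 1 22221 659 = true := by decide +kernel
theorem perm_piece_50_0 : permPiece tabs.word letL.get 1023 15 32767 56 1 0 13333 = true := by decide +kernel
theorem perm_piece_50_1 : permPiece tabs.word letL.get 1023 15 32767 56 1 13333 9547 = true := by decide +kernel
theorem perm_piece_51_0 : permPiece tabs.word letL.get 1023 15 32767 57 1 0 3333 = true := by decide +kernel
theorem perm_piece_51_1 : permPiece tabs.word letL.get 1023 15 32767 57 1 3333 3333 = true := by decide +kernel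
end Cfsg.Agent.Helper28.Suz2
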