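import Cfsg.Agent.Helper28.Suz2.Data
set_option autoImplicit false
set_option maxRecDepth 1000000
namespace Cfsg.Agent.Helper28.Suz2
open Cfsg.Agent.Helper28
theorem perm_piece_51_2 : permPiece tabs.word letL.get 1023 15 32767 57 1 6666 3333 = true := by decide +kernel
theorem perm_piece_51_3 : permPiece tabs.word letL.get 1023 15 32767 57 1 9999 3333 = true := by decide +kernel
theorem perm_piece_51_4 : permPiece tabs.word letL.get 1023 15 32767 57 1 13332 3333 = true := by decide +kernel
theorem perm_piece_51_5 : permPiece tabs.word letL.get 1023 15 32767 57 1 16665 3333 = true := by decide +kernel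
theorem perm_piece_51_6 : permPiece tabs.word letL.get 1023 15 32767 57 1 19998 2882 = true := by decide +kernel
theorem perm_piece_52_0 : permPiece tabs.word letL.get 1023 15 32767 58 1 0 4444 = true := by decide +kernel
theorem perm_piece_52_1 : permPiece tabs.word letL.get 1023 15 32767 58 1 4444 4444 = true := by decide +kernel
theorem perm_piece_52_2 : permPiece tabs.word letL.get 1023 15 32767 58 1 8888 4444 = true := by decide +kernel
end Cfsg.Agent.Helper28.Suz2
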