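import Cfsg.Agent.Helper28.Suz2.Data
set_option autoImplicit false
set_option maxRecDepth 1000000
namespace Cfsg.Agent.Helper28.Suz2
open Cfsg.Agent.Helper28
theorem perm_piece_52_3 : permPiece tabs.word letL.get 1023 15 32767 58 1 13332 4444 = true := by decide +kernel
theorem perm_piece_52_4 : permPiece tabs.word letL.get 1023 15 32767 58 1 17776 4444 = true := by decide +kernel
theorem perm_piece_52_5 : permPiece tabs.word letL.get 1023 15 32767 58 1 22220 660 = true := by decide +kernel
theorem perm_piece_53_0 : permPiece tabs.word letL.get 1023 15 32767 59 1 0 854 = true := by decide +kernel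
theorem perm_piece_53_1 : permPiece tabs.word letL.get 1023 15 32767 59 1 854 854 = true := by decide +kernel
theorem perm_piece_53_2 : permPiece tabs.word letL.get 1023 15 32767 59 1 1708 854 = true := by decide +kernel
theorem perm_piece_53_3 : permPiece tabs.word letL.get 1023 15 32767 59 1 2562 854 = true := by decide +kernel
theorem perm_piece_53_4 : permPiece tabs.word letL.get 1023 15 32767 59 1 3416 854 = true := by decide +kernel
theorem perm_piece_53_5 : permPiece tabs.word letL.get 1023 15 32767 59 1 4270 854 = true := by decide +kernel
end Cfsg.Agent.Helper28.Suz2
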