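import Cfsg.Agent.Helper28.Suz2.Data
set_option autoImplicit false
set_option maxRecDepth 1000000
namespace Cfsg.Agent.Helper28.Suz2
open Cfsg.Agent.Helper28
theorem perm_piece_53_6 : permPiece tabs.word letL.get 1023 15 32767 59 1 5124 854 = true := by decide +kernel
theorem perm_piece_53_7 : permPiece tabs.word letL.get 1023 15 32767 59 1 5978 854 = true := by decide +kernel
theorem perm_piece_53_8 : permPiece tabs.word letL.get 1023 15 32767 59 1 6832 854 = true := by decide +kernel
theorem perm_piece_53_9 : permPiece tabs.word letL.get 1023 15 32767 59 1 7686 854 = true := by decide +kernel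
theorem perm_piece_53_10 : permPiece tabs.word letL.get 1023 15 32767 59 1 8540 854 = true := by decide +kernel
theorem perm_piece_53_11 : permPiece tabs.word letL.get 1023 15 32767 59 1 9394 854 = true := by decide +kernel
theorem perm_piece_53_12 : permPiece tabs.word letL.get 1023 15 32767 59 1 10248 854 = true := by decide +kernel
theorem perm_piece_53_13 : permPiece tabs.word letL.get 1023 15 32767 59 1 11102 854 = true := by decide +kernel
end Cfsg.Agent.Helper28.Suz2
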