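import Cfsg.Agent.Helper28.Suz2.Data
set_option autoImplicit false
set_option maxRecDepth 1000000
namespace Cfsg.Agent.Helper28.Suz2
open Cfsg.Agent.Helper28
theorem perm_piece_53_14 : permPiece tabs.word letL.get 1023 15 32767 59 1 11956 854 = true := by decide +kernel
theorem perm_piece_53_15 : permPiece tabs.word letL.get 1023 15 32767 59 1 12810 854 = true := by decide +kernel
theorem perm_piece_53_16 : permPiece tabs.word letL.get 1023 15 32767 59 1 13664 854 = true := by decide +kernel
theorem perm_piece_53_17 : permPiece tabs.word letL.get 1023 15 32767 59 1 14518 854 = true := by decide +kernel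
theorem perm_piece_53_18 : permPiece tabs.word letL.get 1023 15 32767 59 1 15372 854 = true := by decide +kernel
theorem perm_piece_53_19 : permPiece tabs.word letL.get 1023 15 32767 59 1 16226 854 = true := by decide +kernel
theorem perm_piece_53_20 : permPiece tabs.word letL.get 1023 15 32767 59 1 17080 854 = true := by decide +kernel
theorem perm_piece_53_21 : permPiece tabs.word letL.get 1023 15 32767 59 1 17934 854 = true := by decide +kernel
end Cfsg.Agent.Helper28.Suz2
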