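import Cfsg.Agent.Helper28.Suz2.Data
set_option autoImplicit false
set_option maxRecDepth 1000000
namespace Cfsg.Agent.Helper28.Suz2
open Cfsg.Agent.Helper28
theorem perm_piece_53_22 : permPiece tabs.word letL.get 1023 15 32767 59 1 18788 854 = true := by decide +kernel
theorem perm_piece_53_23 : permPiece tabs.word letL.get 1023 15 32767 59 1 19642 854 = true := by decide +kernel
theorem perm_piece_53_24 : permPiece tabs.word letL.get 1023 15 32767 59 1 20496 854 = true := by decide +kernel
theorem perm_piece_53_25 : permPiece tabs.word letL.get 1023 15 32767 59 1 21350 854 = true := by decide +kernel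
theorem perm_piece_53_26 : permPiece tabs.word letL.get 1023 15 32767 59 1 22204 676 = true := by decide +kernel
end Cfsg.Agent.Helper28.Suz2
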