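import Cfsg.Agent.Helper28.Suz2.Data
set_option autoImplicit false
set_option maxRecDepth 1000000
namespace Cfsg.Agent.Helper28.Suz2
open Cfsg.Agent.Helper28
theorem perm_piece_9_1 : permPiece tabs.word letL.get 1023 15 32767 15 1 11111 11111 = true := by decide +kernel
theorem perm_piece_9_2 : permPiece tabs.word letL.get 1023 15 32767 15 1 22222 658 = true := by decide +kernel
theorem perm_piece_10_0 : permPiece tabs.word letL.get 1023 15 32767 16 1 0 16666 = true := by decide +kernel
theorem perm_piece_10_1 : permPiece tabs.word letL.get 1023 15 32767 16 1 16666 6214 = true := by decide +kernel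
theorem perm_piece_11_0 : permPiece tabs.word letL.get 1023 15 32767 17 1 0 16666 = true := by decide +kernel
theorem perm_piece_11_1 : permPiece tabs.word letL.get 1023 15 32767 17 1 16666 6214 = true := by decide +kernel
theorem perm_piece_12_0 : permPiece tabs.word letL.get 1023 15 32767 18 1 0 11111 = true := by decide +kernel
theorem perm_piece_12_1 : permPiece tabs.word letL.get 1023 15 32767 18 1 11111 11111 = true := by decide +kernel
theorem perm_piece_12_2 : permPiece tabs.word letL.get 1023 15 32767 18 1 22222 658 = true := by decide +kernel
theorem perm_piece_13_0 : permPiece tabs.word letL.get 1023 15 32767 19 1 0 11111 = true := by decide +kernel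
theorem perm_piece_13_1 : permPiece tabs.word letL.get 1023 15 32767 19 1 11111 11111 = true := by decide +kernel
theorem perm_piece_13_2 : permPiece tabs.word letL.get 1023 15 32767 19 1 22222 658 = true := by decide +kernel
end Cfsg.Agent.Helper28.Suz2
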