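import Cfsg.Agent.Helper28.Suz2.Data
set_option autoImplicit false
set_option maxRecDepth 1000000
namespace Cfsg.Agent.Helper28.Suz2
open Cfsg.Agent.Helper28
theorem perm_piece_17_4 : permPiece tabs.word letL.get 1023 15 32767 23 1 16664 4166 = true := by decide +kernel
theorem perm_piece_17_5 : permPiece tabs.word letL.get 1023 15 32767 23 1 20830 2050 = true := by decide +kernel
theorem perm_piece_18_0 : permPiece tabs.word letL.get 1023 15 32767 24 1 0 16666 = true := by decide +kernel
theorem perm_piece_18_1 : permPiece tabs.word letL.get 1023 15 32767 24 1 16666 6214 = true := by decide +kernel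
theorem perm_piece_19_0 : permPiece tabs.word letL.get 1023 15 32767 25 1 0 16666 = true := by decide +kernel
theorem perm_piece_19_1 : permPiece tabs.word letL.get 1023 15 32767 25 1 16666 6214 = true := by decide +kernel
theorem perm_piece_20_0 : permPiece tabs.word letL.get 1023 15 32767 26 1 0 16666 = true := by decide +kernel
theorem perm_piece_20_1 : permPiece tabs.word letL.get 1023 15 32767 26 1 16666 6214 = true := by decide +kernel
theorem perm_piece_21_0 : permPiece tabs.word letL.get 1023 15 32767 27 1 0 16666 = true := by decide +kernel
theorem perm_piece_21_1 : permPiece tabs.word letL.get 1023 15 32767 27 1 16666 6214 = true := by decide +kernel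
theorem perm_piece_22_0 : permPiece tabs.word letL.get 1023 15 32767 28 1 0 16666 = true := by decide +kernel
theorem perm_piece_22_1 : permPiece tabs.word letL.get 1023 15 32767 28 1 16666 6214 = true := by decide +kernel
end Cfsg.Agent.Helper28.Suz2
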