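import Cfsg.Agent.Helper28.Suz2.Data
set_option autoImplicit false
set_option maxRecDepth 1000000
namespace Cfsg.Agent.Helper28.Suz2
open Cfsg.Agent.Helper28
theorem perm_piece_23_0 : permPiece tabs.word letL.get 1023 15 32767 29 1 0 4166 = true := by decide +kernel
theorem perm_piece_23_1 : permPiece tabs.word letL.get 1023 15 32767 29 1 4166 4166 = true := by decide +kernel
theorem perm_piece_23_2 : permPiece tabs.word letL.get 1023 15 32767 29 1 8332 4166 = true := by decide +kernel
theorem perm_piece_23_3 : permPiece tabs.word letL.get 1023 15 32767 29 1 12498 4166 = true := by decide +kernel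
theorem perm_piece_23_4 : permPiece tabs.word letL.get 1023 15 32767 29 1 16664 4166 = true := by decide +kernel
theorem perm_piece_23_5 : permPiece tabs.word letL.get 1023 15 32767 29 1 20830 2050 = true := by decide +kernel
theorem perm_piece_24_0 : permPiece tabs.word letL.get 1023 15 32767 30 1 0 22880 = true := by decide +kernel
theorem perm_piece_25_0 : permPiece tabs.word letL.get 1023 15 32767 31 1 0 11111 = true := by decide +kernel
theorem perm_piece_25_1 : permPiece tabs.word letL.get 1023 15 32767 31 1 11111 11111 = true := by decide +kernel
theorem perm_piece_25_2 : permPiece tabs.word letL.get 1023 15 32767 31 1 22222 658 = true := by decide +kernel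
end Cfsg.Agent.Helper28.Suz2
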