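import Cfsg.Agent.Helper28.Suz2.Data
set_option autoImplicit false
set_option maxRecDepth 1000000
namespace Cfsg.Agent.Helper28.Suz2
open Cfsg.Agent.Helper28
theorem perm_piece_26_0 : permPiece tabs.word letL.get 1023 15 32767 32 1 0 16666 = true := by decide +kernel
theorem perm_piece_26_1 : permPiece tabs.word letL.get 1023 15 32767 32 1 16666 6214 = true := by decide +kernel
theorem perm_piece_27_0 : permPiece tabs.word letL.get 1023 15 32767 33 1 0 16666 = true := by decide +kernel
theorem perm_piece_27_1 : permPiece tabs.word letL.get 1023 15 32767 33 1 16666 6214 = true := by decide +kernel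
theorem perm_piece_28_0 : permPiece tabs.word letL.get 1023 15 32767 34 1 0 16666 = true := by decide +kernel
theorem perm_piece_28_1 : permPiece tabs.word letL.get 1023 15 32767 34 1 16666 6214 = true := by decide +kernel
theorem perm_piece_29_0 : permPiece tabs.word letL.get 1023 15 32767 35 1 0 16666 = true := by decide +kernel
theorem perm_piece_29_1 : permPiece tabs.word letL.get 1023 15 32767 35 1 16666 6214 = true := by decide +kernel
theorem perm_piece_30_0 : permPiece tabs.word letL.get 1023 15 32767 36 1 0 16666 = true := by decide +kernel
theorem perm_piece_30_1 : permPiece tabs.word letL.get 1023 15 32767 36 1 16666 6214 = true := by decide +kernel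
theorem perm_piece_31_0 : permPiece tabs.word letL.get 1023 15 32767 37 1 0 11111 = true := by decide +kernel
end Cfsg.Agent.Helper28.Suz2
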