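import Cfsg.Agent.Helper28.Suz2.Data
set_option autoImplicit false
set_option maxRecDepth 1000000
namespace Cfsg.Agent.Helper28.Suz2
open Cfsg.Agent.Helper28
theorem perm_piece_31_1 : permPiece tabs.word letL.get 1023 15 32767 37 1 11111 11111 = true := by decide +kernel
theorem perm_piece_31_2 : permPiece tabs.word letL.get 1023 15 32767 37 1 22222 658 = true := by decide +kernel
theorem perm_piece_32_0 : permPiece tabs.word letL.get 1023 15 32767 38 1 0 22880 = true := by decide +kernel
theorem perm_piece_33_0 : permPiece tabs.word letL.get 1023 15 32767 39 1 0 16666 = true := by decide +kernel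
theorem perm_piece_33_1 : permPiece tabs.word letL.get 1023 15 32767 39 1 16666 6214 = true := by decide +kernel
theorem perm_piece_34_0 : permPiece tabs.word letL.get 1023 15 32767 40 1 0 16666 = true := by decide +kernel
theorem perm_piece_34_1 : permPiece tabs.word letL.get 1023 15 32767 40 1 16666 6214 = true := by decide +kernel
theorem perm_piece_35_0 : permPiece tabs.word letL.get 1023 15 32767 41 1 0 16666 = true := by decide +kernel
theorem perm_piece_35_1 : permPiece tabs.word letL.get 1023 15 32767 41 1 16666 6214 = true := by decide +kernel
theorem perm_piece_36_0 : permPiece tabs.word letL.get 1023 15 32767 42 1 0 11111 = true := by decide +kernel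
theorem perm_piece_36_1 : permPiece tabs.word letL.get 1023 15 32767 42 1 11111 11111 = true := by decide +kernel
theorem perm_piece_36_2 : permPiece tabs.word letL.get 1023 15 32767 42 1 22222 658 = true := by decide +kernel
end Cfsg.Agent.Helper28.Suz2
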