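import Cfsg.Agent.Helper28.Suz2.Data
set_option autoImplicit false
set_option maxRecDepth 1000000
namespace Cfsg.Agent.Helper28.Suz2
open Cfsg.Agent.Helper28
theorem perm_piece_37_0 : permPiece tabs.word letL.get 1023 15 32767 43 1 0 16666 = true := by decide +kernel
theorem perm_piece_37_1 : permPiece tabs.word letL.get 1023 15 32767 43 1 16666 6214 = true := by decide +kernel
theorem perm_piece_38_0 : permPiece tabs.word letL.get 1023 15 32767 44 1 0 16666 = true := by decide +kernel
theorem perm_piece_38_1 : permPiece tabs.word letL.get 1023 15 32767 44 1 16666 6214 = true := by decide +kernel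
theorem perm_piece_39_0 : permPiece tabs.word letL.get 1023 15 32767 45 1 0 16666 = true := by decide +kernel
theorem perm_piece_39_1 : permPiece tabs.word letL.get 1023 15 32767 45 1 16666 6214 = true := by decide +kernel
theorem perm_piece_40_0 : permPiece tabs.word letL.get 1023 15 32767 46 1 0 22880 = true := by decide +kernel
theorem perm_piece_41_0 : permPiece tabs.word letL.get 1023 15 32767 47 1 0 8333 = true := by decide +kernel
theorem perm_piece_41_1 : permPiece tabs.word letL.get 1023 15 32767 47 1 8333 8333 = true := by decide +kernel
theorem perm_piece_41_2 : permPiece tabs.word letL.get 1023 15 32767 47 1 16666 6214 = true := by decide +kernel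
theorem perm_piece_42_0 : permPiece tabs.word letL.get 1023 15 32767 48 1 0 16666 = true := by decide +kernel
end Cfsg.Agent.Helper28.Suz2
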