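import Cfsg.Agent.Helper28.Suz2.Data
set_option autoImplicit false
set_option maxRecDepth 1000000
namespace Cfsg.Agent.Helper28.Suz2
open Cfsg.Agent.Helper28
theorem perm_piece_42_1 : permPiece tabs.word letL.get 1023 15 32767 48 1 16666 6214 = true := by decide +kernel
theorem perm_piece_43_0 : permPiece tabs.word letL.get 1023 15 32767 49 1 0 11111 = true := by decide +kernel
theorem perm_piece_43_1 : permPiece tabs.word letL.get 1023 15 32767 49 1 11111 11111 = true := by decide +kernel
theorem perm_piece_43_2 : permPiece tabs.word letL.get 1023 15 32767 49 1 22222 658 = true := by decide +kernel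
theorem perm_piece_44_0 : permPiece tabs.word letL.get 1023 15 32767 50 1 0 16666 = true := by decide +kernel
theorem perm_piece_44_1 : permPiece tabs.word letL.get 1023 15 32767 50 1 16666 6214 = true := by decide +kernel
theorem perm_piece_45_0 : permPiece tabs.word letL.get 1023 15 32767 51 1 0 16666 = true := by decide +kernel
theorem perm_piece_45_1 : permPiece tabs.word letL.get 1023 15 32767 51 1 16666 6214 = true := by decide +kernel
theorem perm_piece_46_0 : permPiece tabs.word letL.get 1023 15 32767 52 1 0 16666 = true := by decide +kernel
theorem perm_piece_46_1 : permPiece tabs.word letL.get 1023 15 32767 52 1 16666 6214 = true := by decide +kernel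
theorem perm_piece_47_0 : permPiece tabs.word letL.get 1023 15 32767 53 1 0 8333 = true := by decide +kernel
theorem perm_piece_47_1 : permPiece tabs.word letL.get 1023 15 32767 53 1 8333 8333 = true := by decide +kernel
end Cfsg.Agent.Helper28.Suz2
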