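import Cfsg.Agent.Helper28.Suz2.F0
import Cfsg.Agent.Helper28.Suz2.F1
import Cfsg.Agent.Helper28.Suz2.F2
import Cfsg.Agent.Helper28.Suz2.F3
import Cfsg.Agent.Helper28.Suz2.Fin0
import Cfsg.Agent.Helper28.Suz2.Fin1
import Cfsg.Agent.Helper28.Suz2.Fin2
import Cfsg.Agent.Helper28.Suz2.Fin3
import Cfsg.Agent.Helper28.Suz2.Inv0
import Cfsg.Agent.Helper28.Suz2.Misc0
import Cfsg.Agent.Helper28.Suz2.P0
import Cfsg.Agent.Helper28.Suz2.P1
import Cfsg.Agent.Helper28.Suz2.P2
import Cfsg.Agent.Helper28.Suz2.P3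
import Cfsg.Agent.Helper28.Suz2.P4
import Cfsg.Agent.Helper28.Suz2.P5
import Cfsg.Agent.Helper28.Suz2.P6
import Cfsg.Agent.Helper28.Suz2.P7
import Cfsg.Agent.Helper28.Suz2.P8
import Cfsg.Agent.Helper28.Suz2.P9
import Cfsg.Agent.Helper28.Suz2.P10
import Cfsg.Agent.Helper28.Suz2.P11
import Cfsg.Agent.Helper28.Suz2.P12
import Cfsg.Agent.Helper28.Suz2.P13
import Cfsg.Agent.Helper28.Suz2.P14
import Cfsg.Agent.Helper28.Suz2.P15
set_option autoImplicit false
namespace Cfsg.Agent.Helper28.Suz2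
open Cfsg.Agent.Helper28
theorem fin_upto0 : allLt (finRow tabs ptabs 156253) 714 = true :=
  allLt_extend _ 0 714 714 rfl (allLt_zero _) fin_piece0
theorem fin_upto1 : allLt (finRow tabs ptabs 156253) 1428 = true :=
  allLt_extend _ 714 714 1428 rfl fin_upto0 fin_piece1
theorem fin_upto2 : allLt (finRow tabs ptabs 156253) 2142 = true :=
  allLt_extend _ 1428 714 2142 rfl fin_upto1 fin_piece2
theorem fin_upto3 : allLt (finRow tabs ptabs 156253) 2856 = true :=
  allLt_extend _ 2142 714 2856 rfl fin_upto2 fin_piece3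
theorem fin_upto4 : allLt (finRow tabs ptabs 156253) 3570 = true :=
  allLt_extend _ 2856 714 3570 rfl fin_upto3 fin_piece4
theorem fin_upto5 : allLt (finRow tabs ptabs 156253) 4284 = true :=
  allLt_extend _ 3570 714 4284 rfl fin_upto4 fin_piece5
theorem fin_upto6 : allLt (finRow tabs ptabs 156253) 4998 = true :=
  allLt_extend _ 4284 714 4998 rfl fin_upto5 fin_piece6
theorem fin_upto7 : allLt (finRow tabs ptabs 156253) 5712 = true :=
  allLt_extend _ 4998 714 5712 rfl fin_upto6 fin_piece7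
theorem fin_upto8 : allLt (finRow tabs ptabs 156253) 6426 = true :=
  allLt_extend _ 5712 714 6426 rfl fin_upto7 fin_piece8
theorem fin_upto9 : allLt (finRow tabs ptabs 156253) 7140 = true :=
  allLt_extend _ 6426 714 7140 rfl fin_upto8 fin_piece9
theorem fin_upto10 : allLt (finRow tabs ptabs 156253) 7854 = true :=
  allLt_extend _ 7140 714 7854 rfl fin_upto9 fin_piece10
theorem fin_upto11 : allLt (finRow tabs ptabs 156253) 8568 = true :=
  allLt_extend _ 7854 714 8568 rfl fin_upto10 fin_piece11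
theorem fin_upto12 : allLt (finRow tabs ptabs 156253) 9282 = true :=
  allLt_extend _ 8568 714 9282 rfl fin_upto11 fin_piece12
theorem fin_upto13 : allLt (finRow tabs ptabs 156253) 9996 = true :=
  allLt_extend _ 9282 714 9996 rfl fin_upto12 fin_piece13
theorem fin_upto14 : allLt (finRow tabs ptabs 156253) 10710 = true :=
  allLt_extend _ 9996 714 10710 rfl fin_upto13 fin_piece14
theorem fin_upto15 : allLt (finRow tabs ptabs 156253) 11424 = true :=
  allLt_extend _ 10710 714 11424 rfl fin_upto14 fin_piece15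
theorem fin_upto16 : allLt (finRow tabs ptabs 156253) 12138 = true :=
  allLt_extend _ 11424 714 12138 rfl fin_upto15 fin_piece16
theorem fin_upto17 : allLt (finRow tabs ptabs 156253) 12852 = true :=
  allLt_extend _ 12138 714 12852 rfl fin_upto16 fin_piece17
theorem fin_upto18 : allLt (finRow tabs ptabs 156253) 13566 = true :=
  allLt_extend _ 12852 714 13566 rfl fin_upto17 fin_piece18
theorem fin_upto19 : allLt (finRow tabs ptabs 156253) 14280 = true :=
  allLt_extend _ 13566 714 14280 rfl fin_upto18 fin_piece19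
theorem fin_upto20 : allLt (finRow tabs ptabs 156253) 14994 = true :=
  allLt_extend _ 14280 714 14994 rfl fin_upto19 fin_piece20
theorem fin_upto21 : allLt (finRow tabs ptabs 156253) 15708 = true :=
  allLt_extend _ 14994 714 15708 rfl fin_upto20 fin_piece21
theorem fin_upto22 : allLt (finRow tabs ptabs 156253) 16422 = true :=
  allLt_extend _ 15708 714 16422 rfl fin_upto21 fin_piece22
theorem fin_upto23 : allLt (finRow tabs ptabs 156253) 17136 = true :=
  allLt_extend _ 16422 714 17136 rfl fin_upto22 fin_piece23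
theorem fin_upto24 : allLt (finRow tabs ptabs 156253) 17850 = true :=
  allLt_extend _ 17136 714 17850 rfl fin_upto23 fin_piece24
theorem fin_upto25 : allLt (finRow tabs ptabs 156253) 18564 = true :=
  allLt_extend _ 17850 714 18564 rfl fin_upto24 fin_piece25
theorem fin_upto26 : allLt (finRow tabs ptabs 156253) 19278 = true :=
  allLt_extend _ 18564 714 19278 rfl fin_upto25 fin_piece26
theorem fin_upto27 : allLt (finRow tabs ptabs 156253) 19992 = true :=
  allLt_extend _ 19278 714 19992 rfl fin_upto26 fin_piece27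
theorem fin_upto28 : allLt (finRow tabs ptabs 156253) 20706 = true :=
  allLt_extend _ 19992 714 20706 rfl fin_upto27 fin_piece28
theorem fin_upto29 : allLt (finRow tabs ptabs 156253) 21420 = true :=
  allLt_extend _ 20706 714 21420 rfl fin_upto28 fin_piece29
theorem fin_upto30 : allLt (finRow tabs ptabs 156253) 22134 = true :=
  allLt_extend _ 21420 714 22134 rfl fin_upto29 fin_piece30
theorem fin_upto31 : allLt (finRow tabs ptabs 156253) 22848 = true :=
  allLt_extend _ 22134 714 22848 rfl fin_upto30 fin_piece31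
theorem fin_upto32 : allLt (finRow tabs ptabs 156253) 22880 = true :=
  allLt_extend _ 22848 32 22880 rfl fin_upto31 fin_piece32
theorem fin_ok : checkFin tabs ptabs 156253 = true := (checkFin_eq tabs ptabs 156253).trans fin_upto32
theorem inv_upto0 : allLt (invRow ptabs) 2857 = true :=
  allLt_extend _ 0 2857 2857 rfl (allLt_zero _) inv_piece0
theorem inv_upto1 : allLt (invRow ptabs) 5714 = true :=
  allLt_extend _ 2857 2857 5714 rfl inv_upto0 inv_piece1
theorem inv_upto2 : allLt (invRow ptabs) 8571 = true :=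
  allLt_extend _ 5714 2857 8571 rfl inv_upto1 inv_piece2
theorem inv_upto3 : allLt (invRow ptabs) 11428 = true :=
  allLt_extend _ 8571 2857 11428 rfl inv_upto2 inv_piece3
theorem inv_upto4 : allLt (invRow ptabs) 14285 = true :=
  allLt_extend _ 11428 2857 14285 rfl inv_upto3 inv_piece4
theorem inv_upto5 : allLt (invRow ptabs) 17142 = true :=
  allLt_extend _ 14285 2857 17142 rfl inv_upto4 inv_piece5
theorem inv_upto6 : allLt (invRow ptabs) 19999 = true :=
  allLt_extend _ 17142 2857 19999 rfl inv_upto5 inv_piece6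
theorem inv_upto7 : allLt (invRow ptabs) 22856 = true :=
  allLt_extend _ 19999 2857 22856 rfl inv_upto6 inv_piece7
theorem inv_upto8 : allLt (invRow ptabs) 22880 = true :=
  allLt_extend _ 22856 24 22880 rfl inv_upto7 inv_piece8
theorem inv_ok : invOk ptabs = true := (invOk_eq ptabs).trans inv_upto8
theorem defs_upto0 : allLt (defOk tabs) 27647 = true :=
  allLt_extend _ 0 27647 27647 rfl (allLt_zero _) defs_piece0
theorem defs_ok : checkDefs tabs = true := (checkDefs_eq tabs).trans defs_upto0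
theorem par_upto0 : allLt (parRow ptabs) 22880 = true :=
  allLt_extend _ 0 22880 22880 rfl (allLt_zero _) par_piece0
theorem par_ok : parOk ptabs = true := (parOk_eq ptabs).trans par_upto0
theorem perm_g0_upto0 : TraceFix ptabs.perm tabs.word 6 1 22880 :=
  traceFix_extend _ _ letL.get 1023 15 32767 perm_eq 6 1 0 22880 22880 rfl (traceFix_zero _ _ 6 1) perm_piece_0_0
theorem perm_g0 : ∀ r, 6 ≤ r → r < 6 + 1 → relOk ptabs (tabs.word r) 0 ptabs.n = true :=
  relOk_of_traceFix ptabs tabs.word 6 1 perm_g0_upto0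
theorem perm_g1_upto0 : TraceFix ptabs.perm tabs.word 7 1 6666 :=
  traceFix_extend _ _ letL.get 1023 15 32767 perm_eq 7 1 0 6666 6666 rfl (traceFix_zero _ _ 7 1) perm_piece_1_0
theorem perm_g1_upto1 : TraceFix ptabs.perm tabs.word 7 1 13332 :=
  traceFix_extend _ _ letL.get 1023 15 32767 perm_eq 7 1 6666 6666 13332 rfl perm_g1_upto0 perm_piece_1_1
theorem perm_g1_upto2 : TraceFix ptabs.perm tabs.word 7 1 19998 :=
  traceFix_extend _ _ letL.get 1023 15 32767 perm_eq 7 1 13332 6666 19998 rfl perm_g1_upto1 perm_piece_1_2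
theorem perm_g1_upto3 : TraceFix ptabs.perm tabs.word 7 1 22880 :=
  traceFix_extend _ _ letL.get 1023 15 32767 perm_eq 7 1 19998 2882 22880 rfl perm_g1_upto2 perm_piece_1_3
theorem perm_g1 : ∀ r, 7 ≤ r → r < 7 + 1 → relOk ptabs (tabs.word r) 0 ptabs.n = true :=
  relOk_of_traceFix ptabs tabs.word 7 1 perm_g1_upto3
theorem perm_g2_upto0 : TraceFix ptabs.perm tabs.word 8 1 16666 :=
  traceFix_extend _ _ letL.get 1023 15 32767 perm_eq 8 1 0 16666 16666 rfl (traceFix_zero _ _ 8 1) perm_piece_2_0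
theorem perm_g2_upto1 : TraceFix ptabs.perm tabs.word 8 1 22880 :=
  traceFix_extend _ _ letL.get 1023 15 32767 perm_eq 8 1 16666 6214 22880 rfl perm_g2_upto0 perm_piece_2_1
theorem perm_g2 : ∀ r, 8 ≤ r → r < 8 + 1 → relOk ptabs (tabs.word r) 0 ptabs.n = true :=
  relOk_of_traceFix ptabs tabs.word 8 1 perm_g2_upto1
theorem perm_g3_upto0 : TraceFix ptabs.perm tabs.word 9 1 16666 :=
  traceFix_extend _ _ letL.get 1023 15 32767 perm_eq 9 1 0 16666 16666 rfl (traceFix_zero _ _ 9 1) perm_piece_3_0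
theorem perm_g3_upto1 : TraceFix ptabs.perm tabs.word 9 1 22880 :=
  traceFix_extend _ _ letL.get 1023 15 32767 perm_eq 9 1 16666 6214 22880 rfl perm_g3_upto0 perm_piece_3_1
theorem perm_g3 : ∀ r, 9 ≤ r → r < 9 + 1 → relOk ptabs (tabs.word r) 0 ptabs.n = true :=
  relOk_of_traceFix ptabs tabs.word 9 1 perm_g3_upto1
theorem perm_g4_upto0 : TraceFix ptabs.perm tabs.word 10 1 16666 :=
  traceFix_extend _ _ letL.get 1023 15 32767 perm_eq 10 1 0 16666 16666 rfl (traceFix_zero _ _ 10 1) perm_piece_4_0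
theorem perm_g4_upto1 : TraceFix ptabs.perm tabs.word 10 1 22880 :=
  traceFix_extend _ _ letL.get 1023 15 32767 perm_eq 10 1 16666 6214 22880 rfl perm_g4_upto0 perm_piece_4_1
theorem perm_g4 : ∀ r, 10 ≤ r → r < 10 + 1 → relOk ptabs (tabs.word r) 0 ptabs.n = true :=
  relOk_of_traceFix ptabs tabs.word 10 1 perm_g4_upto1
theorem perm_g5_upto0 : TraceFix ptabs.perm tabs.word 11 1 16666 :=
  traceFix_extend _ _ letL.get 1023 15 32767 perm_eq 11 1 0 16666 16666 rfl (traceFix_zero _ _ 11 1) perm_piece_5_0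
theorem perm_g5_upto1 : TraceFix ptabs.perm tabs.word 11 1 22880 :=
  traceFix_extend _ _ letL.get 1023 15 32767 perm_eq 11 1 16666 6214 22880 rfl perm_g5_upto0 perm_piece_5_1
theorem perm_g5 : ∀ r, 11 ≤ r → r < 11 + 1 → relOk ptabs (tabs.word r) 0 ptabs.n = true :=
  relOk_of_traceFix ptabs tabs.word 11 1 perm_g5_upto1
theorem perm_g6_upto0 : TraceFix ptabs.perm tabs.word 12 1 16666 :=
  traceFix_extend _ _ letL.get 1023 15 32767 perm_eq 12 1 0 16666 16666 rfl (traceFix_zero _ _ 12 1) perm_piece_6_0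
theorem perm_g6_upto1 : TraceFix ptabs.perm tabs.word 12 1 22880 :=
  traceFix_extend _ _ letL.get 1023 15 32767 perm_eq 12 1 16666 6214 22880 rfl perm_g6_upto0 perm_piece_6_1
theorem perm_g6 : ∀ r, 12 ≤ r → r < 12 + 1 → relOk ptabs (tabs.word r) 0 ptabs.n = true :=
  relOk_of_traceFix ptabs tabs.word 12 1 perm_g6_upto1
theorem perm_g7_upto0 : TraceFix ptabs.perm tabs.word 13 1 6666 :=
  traceFix_extend _ _ letL.get 1023 15 32767 perm_eq 13 1 0 6666 6666 rfl (traceFix_zero _ _ 13 1) perm_piece_7_0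
theorem perm_g7_upto1 : TraceFix ptabs.perm tabs.word 13 1 13332 :=
  traceFix_extend _ _ letL.get 1023 15 32767 perm_eq 13 1 6666 6666 13332 rfl perm_g7_upto0 perm_piece_7_1
theorem perm_g7_upto2 : TraceFix ptabs.perm tabs.word 13 1 19998 :=
  traceFix_extend _ _ letL.get 1023 15 32767 perm_eq 13 1 13332 6666 19998 rfl perm_g7_upto1 perm_piece_7_2
theorem perm_g7_upto3 : TraceFix ptabs.perm tabs.word 13 1 22880 :=
  traceFix_extend _ _ letL.get 1023 15 32767 perm_eq 13 1 19998 2882 22880 rfl perm_g7_upto2 perm_piece_7_3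
theorem perm_g7 : ∀ r, 13 ≤ r → r < 13 + 1 → relOk ptabs (tabs.word r) 0 ptabs.n = true :=
  relOk_of_traceFix ptabs tabs.word 13 1 perm_g7_upto3
theorem perm_g8_upto0 : TraceFix ptabs.perm tabs.word 14 1 22880 :=
  traceFix_extend _ _ letL.get 1023 15 32767 perm_eq 14 1 0 22880 22880 rfl (traceFix_zero _ _ 14 1) perm_piece_8_0
theorem perm_g8 : ∀ r, 14 ≤ r → r < 14 + 1 → relOk ptabs (tabs.word r) 0 ptabs.n = true :=
  relOk_of_traceFix ptabs tabs.word 14 1 perm_g8_upto0
theorem perm_g9_upto0 : TraceFix ptabs.perm tabs.word 15 1 11111 :=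
  traceFix_extend _ _ letL.get 1023 15 32767 perm_eq 15 1 0 11111 11111 rfl (traceFix_zero _ _ 15 1) perm_piece_9_0
theorem perm_g9_upto1 : TraceFix ptabs.perm tabs.word 15 1 22222 :=
  traceFix_extend _ _ letL.get 1023 15 32767 perm_eq 15 1 11111 11111 22222 rfl perm_g9_upto0 perm_piece_9_1
theorem perm_g9_upto2 : TraceFix ptabs.perm tabs.word 15 1 22880 :=
  traceFix_extend _ _ letL.get 1023 15 32767 perm_eq 15 1 22222 658 22880 rfl perm_g9_upto1 perm_piece_9_2
theorem perm_g9 : ∀ r, 15 ≤ r → r < 15 + 1 → relOk ptabs (tabs.word r) 0 ptabs.n = true :=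
  relOk_of_traceFix ptabs tabs.word 15 1 perm_g9_upto2
theorem perm_g10_upto0 : TraceFix ptabs.perm tabs.word 16 1 16666 :=
  traceFix_extend _ _ letL.get 1023 15 32767 perm_eq 16 1 0 16666 16666 rfl (traceFix_zero _ _ 16 1) perm_piece_10_0
theorem perm_g10_upto1 : TraceFix ptabs.perm tabs.word 16 1 22880 :=
  traceFix_extend _ _ letL.get 1023 15 32767 perm_eq 16 1 16666 6214 22880 rfl perm_g10_upto0 perm_piece_10_1
theorem perm_g10 : ∀ r, 16 ≤ r → r < 16 + 1 → relOk ptabs (tabs.word r) 0 ptabs.n = true :=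
  relOk_of_traceFix ptabs tabs.word 16 1 perm_g10_upto1
theorem perm_g11_upto0 : TraceFix ptabs.perm tabs.word 17 1 16666 :=
  traceFix_extend _ _ letL.get 1023 15 32767 perm_eq 17 1 0 16666 16666 rfl (traceFix_zero _ _ 17 1) perm_piece_11_0
theorem perm_g11_upto1 : TraceFix ptabs.perm tabs.word 17 1 22880 :=
  traceFix_extend _ _ letL.get 1023 15 32767 perm_eq 17 1 16666 6214 22880 rfl perm_g11_upto0 perm_piece_11_1
theorem perm_g11 : ∀ r, 17 ≤ r → r < 17 + 1 → relOk ptabs (tabs.word r) 0 ptabs.n = true :=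
  relOk_of_traceFix ptabs tabs.word 17 1 perm_g11_upto1
theorem perm_g12_upto0 : TraceFix ptabs.perm tabs.word 18 1 11111 :=
  traceFix_extend _ _ letL.get 1023 15 32767 perm_eq 18 1 0 11111 11111 rfl (traceFix_zero _ _ 18 1) perm_piece_12_0
theorem perm_g12_upto1 : TraceFix ptabs.perm tabs.word 18 1 22222 :=
  traceFix_extend _ _ letL.get 1023 15 32767 perm_eq 18 1 11111 11111 22222 rfl perm_g12_upto0 perm_piece_12_1
theorem perm_g12_upto2 : TraceFix ptabs.perm tabs.word 18 1 22880 :=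
  traceFix_extend _ _ letL.get 1023 15 32767 perm_eq 18 1 22222 658 22880 rfl perm_g12_upto1 perm_piece_12_2
theorem perm_g12 : ∀ r, 18 ≤ r → r < 18 + 1 → relOk ptabs (tabs.word r) 0 ptabs.n = true :=
  relOk_of_traceFix ptabs tabs.word 18 1 perm_g12_upto2
theorem perm_g13_upto0 : TraceFix ptabs.perm tabs.word 19 1 11111 :=
  traceFix_extend _ _ letL.get 1023 15 32767 perm_eq 19 1 0 11111 11111 rfl (traceFix_zero _ _ 19 1) perm_piece_13_0
theorem perm_g13_upto1 : TraceFix ptabs.perm tabs.word 19 1 22222 :=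
  traceFix_extend _ _ letL.get 1023 15 32767 perm_eq 19 1 11111 11111 22222 rfl perm_g13_upto0 perm_piece_13_1
theorem perm_g13_upto2 : TraceFix ptabs.perm tabs.word 19 1 22880 :=
  traceFix_extend _ _ letL.get 1023 15 32767 perm_eq 19 1 22222 658 22880 rfl perm_g13_upto1 perm_piece_13_2
theorem perm_g13 : ∀ r, 19 ≤ r → r < 19 + 1 → relOk ptabs (tabs.word r) 0 ptabs.n = true :=
  relOk_of_traceFix ptabs tabs.word 19 1 perm_g13_upto2
theorem perm_g14_upto0 : TraceFix ptabs.perm tabs.word 20 1 16666 :=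
  traceFix_extend _ _ letL.get 1023 15 32767 perm_eq 20 1 0 16666 16666 rfl (traceFix_zero _ _ 20 1) perm_piece_14_0
theorem perm_g14_upto1 : TraceFix ptabs.perm tabs.word 20 1 22880 :=
  traceFix_extend _ _ letL.get 1023 15 32767 perm_eq 20 1 16666 6214 22880 rfl perm_g14_upto0 perm_piece_14_1
theorem perm_g14 : ∀ r, 20 ≤ r → r < 20 + 1 → relOk ptabs (tabs.word r) 0 ptabs.n = true :=
  relOk_of_traceFix ptabs tabs.word 20 1 perm_g14_upto1
theorem perm_g15_upto0 : TraceFix ptabs.perm tabs.word 21 1 11111 :=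
  traceFix_extend _ _ letL.get 1023 15 32767 perm_eq 21 1 0 11111 11111 rfl (traceFix_zero _ _ 21 1) perm_piece_15_0
theorem perm_g15_upto1 : TraceFix ptabs.perm tabs.word 21 1 22222 :=
  traceFix_extend _ _ letL.get 1023 15 32767 perm_eq 21 1 11111 11111 22222 rfl perm_g15_upto0 perm_piece_15_1
theorem perm_g15_upto2 : TraceFix ptabs.perm tabs.word 21 1 22880 :=
  traceFix_extend _ _ letL.get 1023 15 32767 perm_eq 21 1 22222 658 22880 rfl perm_g15_upto1 perm_piece_15_2
theorem perm_g15 : ∀ r, 21 ≤ r → r < 21 + 1 → relOk ptabs (tabs.word r) 0 ptabs.n = true :=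
  relOk_of_traceFix ptabs tabs.word 21 1 perm_g15_upto2
theorem perm_g16_upto0 : TraceFix ptabs.perm tabs.word 22 1 22880 :=
  traceFix_extend _ _ letL.get 1023 15 32767 perm_eq 22 1 0 22880 22880 rfl (traceFix_zero _ _ 22 1) perm_piece_16_0
theorem perm_g16 : ∀ r, 22 ≤ r → r < 22 + 1 → relOk ptabs (tabs.word r) 0 ptabs.n = true :=
  relOk_of_traceFix ptabs tabs.word 22 1 perm_g16_upto0
theorem perm_g17_upto0 : TraceFix ptabs.perm tabs.word 23 1 4166 :=
  traceFix_extend _ _ letL.get 1023 15 32767 perm_eq 23 1 0 4166 4166 rfl (traceFix_zero _ _ 23 1) perm_piece_17_0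
theorem perm_g17_upto1 : TraceFix ptabs.perm tabs.word 23 1 8332 :=
  traceFix_extend _ _ letL.get 1023 15 32767 perm_eq 23 1 4166 4166 8332 rfl perm_g17_upto0 perm_piece_17_1
theorem perm_g17_upto2 : TraceFix ptabs.perm tabs.word 23 1 12498 :=
  traceFix_extend _ _ letL.get 1023 15 32767 perm_eq 23 1 8332 4166 12498 rfl perm_g17_upto1 perm_piece_17_2
theorem perm_g17_upto3 : TraceFix ptabs.perm tabs.word 23 1 16664 :=
  traceFix_extend _ _ letL.get 1023 15 32767 perm_eq 23 1 12498 4166 16664 rfl perm_g17_upto2 perm_piece_17_3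
theorem perm_g17_upto4 : TraceFix ptabs.perm tabs.word 23 1 20830 :=
  traceFix_extend _ _ letL.get 1023 15 32767 perm_eq 23 1 16664 4166 20830 rfl perm_g17_upto3 perm_piece_17_4
theorem perm_g17_upto5 : TraceFix ptabs.perm tabs.word 23 1 22880 :=
  traceFix_extend _ _ letL.get 1023 15 32767 perm_eq 23 1 20830 2050 22880 rfl perm_g17_upto4 perm_piece_17_5
theorem perm_g17 : ∀ r, 23 ≤ r → r < 23 + 1 → relOk ptabs (tabs.word r) 0 ptabs.n = true :=
  relOk_of_traceFix ptabs tabs.word 23 1 perm_g17_upto5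
theorem perm_g18_upto0 : TraceFix ptabs.perm tabs.word 24 1 16666 :=
  traceFix_extend _ _ letL.get 1023 15 32767 perm_eq 24 1 0 16666 16666 rfl (traceFix_zero _ _ 24 1) perm_piece_18_0
theorem perm_g18_upto1 : TraceFix ptabs.perm tabs.word 24 1 22880 :=
  traceFix_extend _ _ letL.get 1023 15 32767 perm_eq 24 1 16666 6214 22880 rfl perm_g18_upto0 perm_piece_18_1
theorem perm_g18 : ∀ r, 24 ≤ r → r < 24 + 1 → relOk ptabs (tabs.word r) 0 ptabs.n = true :=
  relOk_of_traceFix ptabs tabs.word 24 1 perm_g18_upto1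
theorem perm_g19_upto0 : TraceFix ptabs.perm tabs.word 25 1 16666 :=
  traceFix_extend _ _ letL.get 1023 15 32767 perm_eq 25 1 0 16666 16666 rfl (traceFix_zero _ _ 25 1) perm_piece_19_0
theorem perm_g19_upto1 : TraceFix ptabs.perm tabs.word 25 1 22880 :=
  traceFix_extend _ _ letL.get 1023 15 32767 perm_eq 25 1 16666 6214 22880 rfl perm_g19_upto0 perm_piece_19_1
theorem perm_g19 : ∀ r, 25 ≤ r → r < 25 + 1 → relOk ptabs (tabs.word r) 0 ptabs.n = true :=
  relOk_of_traceFix ptabs tabs.word 25 1 perm_g19_upto1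
theorem perm_g20_upto0 : TraceFix ptabs.perm tabs.word 26 1 16666 :=
  traceFix_extend _ _ letL.get 1023 15 32767 perm_eq 26 1 0 16666 16666 rfl (traceFix_zero _ _ 26 1) perm_piece_20_0
theorem perm_g20_upto1 : TraceFix ptabs.perm tabs.word 26 1 22880 :=
  traceFix_extend _ _ letL.get 1023 15 32767 perm_eq 26 1 16666 6214 22880 rfl perm_g20_upto0 perm_piece_20_1
theorem perm_g20 : ∀ r, 26 ≤ r → r < 26 + 1 → relOk ptabs (tabs.word r) 0 ptabs.n = true :=
  relOk_of_traceFix ptabs tabs.word 26 1 perm_g20_upto1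
theorem perm_g21_upto0 : TraceFix ptabs.perm tabs.word 27 1 16666 :=
  traceFix_extend _ _ letL.get 1023 15 32767 perm_eq 27 1 0 16666 16666 rfl (traceFix_zero _ _ 27 1) perm_piece_21_0
theorem perm_g21_upto1 : TraceFix ptabs.perm tabs.word 27 1 22880 :=
  traceFix_extend _ _ letL.get 1023 15 32767 perm_eq 27 1 16666 6214 22880 rfl perm_g21_upto0 perm_piece_21_1
theorem perm_g21 : ∀ r, 27 ≤ r → r < 27 + 1 → relOk ptabs (tabs.word r) 0 ptabs.n = true :=
  relOk_of_traceFix ptabs tabs.word 27 1 perm_g21_upto1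
theorem perm_g22_upto0 : TraceFix ptabs.perm tabs.word 28 1 16666 :=
  traceFix_extend _ _ letL.get 1023 15 32767 perm_eq 28 1 0 16666 16666 rfl (traceFix_zero _ _ 28 1) perm_piece_22_0
theorem perm_g22_upto1 : TraceFix ptabs.perm tabs.word 28 1 22880 :=
  traceFix_extend _ _ letL.get 1023 15 32767 perm_eq 28 1 16666 6214 22880 rfl perm_g22_upto0 perm_piece_22_1
theorem perm_g22 : ∀ r, 28 ≤ r → r < 28 + 1 → relOk ptabs (tabs.word r) 0 ptabs.n = true :=
  relOk_of_traceFix ptabs tabs.word 28 1 perm_g22_upto1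
theorem perm_g23_upto0 : TraceFix ptabs.perm tabs.word 29 1 4166 :=
  traceFix_extend _ _ letL.get 1023 15 32767 perm_eq 29 1 0 4166 4166 rfl (traceFix_zero _ _ 29 1) perm_piece_23_0
theorem perm_g23_upto1 : TraceFix ptabs.perm tabs.word 29 1 8332 :=
  traceFix_extend _ _ letL.get 1023 15 32767 perm_eq 29 1 4166 4166 8332 rfl perm_g23_upto0 perm_piece_23_1
theorem perm_g23_upto2 : TraceFix ptabs.perm tabs.word 29 1 12498 :=
  traceFix_extend _ _ letL.get 1023 15 32767 perm_eq 29 1 8332 4166 12498 rfl perm_g23_upto1 perm_piece_23_2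
theorem perm_g23_upto3 : TraceFix ptabs.perm tabs.word 29 1 16664 :=
  traceFix_extend _ _ letL.get 1023 15 32767 perm_eq 29 1 12498 4166 16664 rfl perm_g23_upto2 perm_piece_23_3
theorem perm_g23_upto4 : TraceFix ptabs.perm tabs.word 29 1 20830 :=
  traceFix_extend _ _ letL.get 1023 15 32767 perm_eq 29 1 16664 4166 20830 rfl perm_g23_upto3 perm_piece_23_4
theorem perm_g23_upto5 : TraceFix ptabs.perm tabs.word 29 1 22880 :=
  traceFix_extend _ _ letL.get 1023 15 32767 perm_eq 29 1 20830 2050 22880 rfl perm_g23_upto4 perm_piece_23_5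
theorem perm_g23 : ∀ r, 29 ≤ r → r < 29 + 1 → relOk ptabs (tabs.word r) 0 ptabs.n = true :=
  relOk_of_traceFix ptabs tabs.word 29 1 perm_g23_upto5
theorem perm_g24_upto0 : TraceFix ptabs.perm tabs.word 30 1 22880 :=
  traceFix_extend _ _ letL.get 1023 15 32767 perm_eq 30 1 0 22880 22880 rfl (traceFix_zero _ _ 30 1) perm_piece_24_0
theorem perm_g24 : ∀ r, 30 ≤ r → r < 30 + 1 → relOk ptabs (tabs.word r) 0 ptabs.n = true :=
  relOk_of_traceFix ptabs tabs.word 30 1 perm_g24_upto0
theorem perm_g25_upto0 : TraceFix ptabs.perm tabs.word 31 1 11111 :=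
  traceFix_extend _ _ letL.get 1023 15 32767 perm_eq 31 1 0 11111 11111 rfl (traceFix_zero _ _ 31 1) perm_piece_25_0
theorem perm_g25_upto1 : TraceFix ptabs.perm tabs.word 31 1 22222 :=
  traceFix_extend _ _ letL.get 1023 15 32767 perm_eq 31 1 11111 11111 22222 rfl perm_g25_upto0 perm_piece_25_1
theorem perm_g25_upto2 : TraceFix ptabs.perm tabs.word 31 1 22880 :=
  traceFix_extend _ _ letL.get 1023 15 32767 perm_eq 31 1 22222 658 22880 rfl perm_g25_upto1 perm_piece_25_2
theorem perm_g25 : ∀ r, 31 ≤ r → r < 31 + 1 → relOk ptabs (tabs.word r) 0 ptabs.n = true :=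
  relOk_of_traceFix ptabs tabs.word 31 1 perm_g25_upto2
theorem perm_g26_upto0 : TraceFix ptabs.perm tabs.word 32 1 16666 :=
  traceFix_extend _ _ letL.get 1023 15 32767 perm_eq 32 1 0 16666 16666 rfl (traceFix_zero _ _ 32 1) perm_piece_26_0
theorem perm_g26_upto1 : TraceFix ptabs.perm tabs.word 32 1 22880 :=
  traceFix_extend _ _ letL.get 1023 15 32767 perm_eq 32 1 16666 6214 22880 rfl perm_g26_upto0 perm_piece_26_1
theorem perm_g26 : ∀ r, 32 ≤ r → r < 32 + 1 → relOk ptabs (tabs.word r) 0 ptabs.n = true :=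
  relOk_of_traceFix ptabs tabs.word 32 1 perm_g26_upto1
theorem perm_g27_upto0 : TraceFix ptabs.perm tabs.word 33 1 16666 :=
  traceFix_extend _ _ letL.get 1023 15 32767 perm_eq 33 1 0 16666 16666 rfl (traceFix_zero _ _ 33 1) perm_piece_27_0
theorem perm_g27_upto1 : TraceFix ptabs.perm tabs.word 33 1 22880 :=
  traceFix_extend _ _ letL.get 1023 15 32767 perm_eq 33 1 16666 6214 22880 rfl perm_g27_upto0 perm_piece_27_1
theorem perm_g27 : ∀ r, 33 ≤ r → r < 33 + 1 → relOk ptabs (tabs.word r) 0 ptabs.n = true :=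
  relOk_of_traceFix ptabs tabs.word 33 1 perm_g27_upto1
theorem perm_g28_upto0 : TraceFix ptabs.perm tabs.word 34 1 16666 :=
  traceFix_extend _ _ letL.get 1023 15 32767 perm_eq 34 1 0 16666 16666 rfl (traceFix_zero _ _ 34 1) perm_piece_28_0
theorem perm_g28_upto1 : TraceFix ptabs.perm tabs.word 34 1 22880 :=
  traceFix_extend _ _ letL.get 1023 15 32767 perm_eq 34 1 16666 6214 22880 rfl perm_g28_upto0 perm_piece_28_1
theorem perm_g28 : ∀ r, 34 ≤ r → r < 34 + 1 → relOk ptabs (tabs.word r) 0 ptabs.n = true :=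
  relOk_of_traceFix ptabs tabs.word 34 1 perm_g28_upto1
theorem perm_g29_upto0 : TraceFix ptabs.perm tabs.word 35 1 16666 :=
  traceFix_extend _ _ letL.get 1023 15 32767 perm_eq 35 1 0 16666 16666 rfl (traceFix_zero _ _ 35 1) perm_piece_29_0
theorem perm_g29_upto1 : TraceFix ptabs.perm tabs.word 35 1 22880 :=
  traceFix_extend _ _ letL.get 1023 15 32767 perm_eq 35 1 16666 6214 22880 rfl perm_g29_upto0 perm_piece_29_1
theorem perm_g29 : ∀ r, 35 ≤ r → r < 35 + 1 → relOk ptabs (tabs.word r) 0 ptabs.n = true :=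
  relOk_of_traceFix ptabs tabs.word 35 1 perm_g29_upto1
theorem perm_g30_upto0 : TraceFix ptabs.perm tabs.word 36 1 16666 :=
  traceFix_extend _ _ letL.get 1023 15 32767 perm_eq 36 1 0 16666 16666 rfl (traceFix_zero _ _ 36 1) perm_piece_30_0
theorem perm_g30_upto1 : TraceFix ptabs.perm tabs.word 36 1 22880 :=
  traceFix_extend _ _ letL.get 1023 15 32767 perm_eq 36 1 16666 6214 22880 rfl perm_g30_upto0 perm_piece_30_1
theorem perm_g30 : ∀ r, 36 ≤ r → r < 36 + 1 → relOk ptabs (tabs.word r) 0 ptabs.n = true :=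
  relOk_of_traceFix ptabs tabs.word 36 1 perm_g30_upto1
theorem perm_g31_upto0 : TraceFix ptabs.perm tabs.word 37 1 11111 :=
  traceFix_extend _ _ letL.get 1023 15 32767 perm_eq 37 1 0 11111 11111 rfl (traceFix_zero _ _ 37 1) perm_piece_31_0
theorem perm_g31_upto1 : TraceFix ptabs.perm tabs.word 37 1 22222 :=
  traceFix_extend _ _ letL.get 1023 15 32767 perm_eq 37 1 11111 11111 22222 rfl perm_g31_upto0 perm_piece_31_1
theorem perm_g31_upto2 : TraceFix ptabs.perm tabs.word 37 1 22880 :=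
  traceFix_extend _ _ letL.get 1023 15 32767 perm_eq 37 1 22222 658 22880 rfl perm_g31_upto1 perm_piece_31_2
theorem perm_g31 : ∀ r, 37 ≤ r → r < 37 + 1 → relOk ptabs (tabs.word r) 0 ptabs.n = true :=
  relOk_of_traceFix ptabs tabs.word 37 1 perm_g31_upto2
theorem perm_g32_upto0 : TraceFix ptabs.perm tabs.word 38 1 22880 :=
  traceFix_extend _ _ letL.get 1023 15 32767 perm_eq 38 1 0 22880 22880 rfl (traceFix_zero _ _ 38 1) perm_piece_32_0
theorem perm_g32 : ∀ r, 38 ≤ r → r < 38 + 1 → relOk ptabs (tabs.word r) 0 ptabs.n = true :=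
  relOk_of_traceFix ptabs tabs.word 38 1 perm_g32_upto0
theorem perm_g33_upto0 : TraceFix ptabs.perm tabs.word 39 1 16666 :=
  traceFix_extend _ _ letL.get 1023 15 32767 perm_eq 39 1 0 16666 16666 rfl (traceFix_zero _ _ 39 1) perm_piece_33_0
theorem perm_g33_upto1 : TraceFix ptabs.perm tabs.word 39 1 22880 :=
  traceFix_extend _ _ letL.get 1023 15 32767 perm_eq 39 1 16666 6214 22880 rfl perm_g33_upto0 perm_piece_33_1
theorem perm_g33 : ∀ r, 39 ≤ r → r < 39 + 1 → relOk ptabs (tabs.word r) 0 ptabs.n = true :=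
  relOk_of_traceFix ptabs tabs.word 39 1 perm_g33_upto1
theorem perm_g34_upto0 : TraceFix ptabs.perm tabs.word 40 1 16666 :=
  traceFix_extend _ _ letL.get 1023 15 32767 perm_eq 40 1 0 16666 16666 rfl (traceFix_zero _ _ 40 1) perm_piece_34_0
theorem perm_g34_upto1 : TraceFix ptabs.perm tabs.word 40 1 22880 :=
  traceFix_extend _ _ letL.get 1023 15 32767 perm_eq 40 1 16666 6214 22880 rfl perm_g34_upto0 perm_piece_34_1
theorem perm_g34 : ∀ r, 40 ≤ r → r < 40 + 1 → relOk ptabs (tabs.word r) 0 ptabs.n = true :=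
  relOk_of_traceFix ptabs tabs.word 40 1 perm_g34_upto1
theorem perm_g35_upto0 : TraceFix ptabs.perm tabs.word 41 1 16666 :=
  traceFix_extend _ _ letL.get 1023 15 32767 perm_eq 41 1 0 16666 16666 rfl (traceFix_zero _ _ 41 1) perm_piece_35_0
theorem perm_g35_upto1 : TraceFix ptabs.perm tabs.word 41 1 22880 :=
  traceFix_extend _ _ letL.get 1023 15 32767 perm_eq 41 1 16666 6214 22880 rfl perm_g35_upto0 perm_piece_35_1
theorem perm_g35 : ∀ r, 41 ≤ r → r < 41 + 1 → relOk ptabs (tabs.word r) 0 ptabs.n = true :=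
  relOk_of_traceFix ptabs tabs.word 41 1 perm_g35_upto1
theorem perm_g36_upto0 : TraceFix ptabs.perm tabs.word 42 1 11111 :=
  traceFix_extend _ _ letL.get 1023 15 32767 perm_eq 42 1 0 11111 11111 rfl (traceFix_zero _ _ 42 1) perm_piece_36_0
theorem perm_g36_upto1 : TraceFix ptabs.perm tabs.word 42 1 22222 :=
  traceFix_extend _ _ letL.get 1023 15 32767 perm_eq 42 1 11111 11111 22222 rfl perm_g36_upto0 perm_piece_36_1
theorem perm_g36_upto2 : TraceFix ptabs.perm tabs.word 42 1 22880 :=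
  traceFix_extend _ _ letL.get 1023 15 32767 perm_eq 42 1 22222 658 22880 rfl perm_g36_upto1 perm_piece_36_2
theorem perm_g36 : ∀ r, 42 ≤ r → r < 42 + 1 → relOk ptabs (tabs.word r) 0 ptabs.n = true :=
  relOk_of_traceFix ptabs tabs.word 42 1 perm_g36_upto2
theorem perm_g37_upto0 : TraceFix ptabs.perm tabs.word 43 1 16666 :=
  traceFix_extend _ _ letL.get 1023 15 32767 perm_eq 43 1 0 16666 16666 rfl (traceFix_zero _ _ 43 1) perm_piece_37_0
theorem perm_g37_upto1 : TraceFix ptabs.perm tabs.word 43 1 22880 :=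
  traceFix_extend _ _ letL.get 1023 15 32767 perm_eq 43 1 16666 6214 22880 rfl perm_g37_upto0 perm_piece_37_1
theorem perm_g37 : ∀ r, 43 ≤ r → r < 43 + 1 → relOk ptabs (tabs.word r) 0 ptabs.n = true :=
  relOk_of_traceFix ptabs tabs.word 43 1 perm_g37_upto1
theorem perm_g38_upto0 : TraceFix ptabs.perm tabs.word 44 1 16666 :=
  traceFix_extend _ _ letL.get 1023 15 32767 perm_eq 44 1 0 16666 16666 rfl (traceFix_zero _ _ 44 1) perm_piece_38_0
theorem perm_g38_upto1 : TraceFix ptabs.perm tabs.word 44 1 22880 :=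
  traceFix_extend _ _ letL.get 1023 15 32767 perm_eq 44 1 16666 6214 22880 rfl perm_g38_upto0 perm_piece_38_1
theorem perm_g38 : ∀ r, 44 ≤ r → r < 44 + 1 → relOk ptabs (tabs.word r) 0 ptabs.n = true :=
  relOk_of_traceFix ptabs tabs.word 44 1 perm_g38_upto1
theorem perm_g39_upto0 : TraceFix ptabs.perm tabs.word 45 1 16666 :=
  traceFix_extend _ _ letL.get 1023 15 32767 perm_eq 45 1 0 16666 16666 rfl (traceFix_zero _ _ 45 1) perm_piece_39_0
theorem perm_g39_upto1 : TraceFix ptabs.perm tabs.word 45 1 22880 :=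
  traceFix_extend _ _ letL.get 1023 15 32767 perm_eq 45 1 16666 6214 22880 rfl perm_g39_upto0 perm_piece_39_1
theorem perm_g39 : ∀ r, 45 ≤ r → r < 45 + 1 → relOk ptabs (tabs.word r) 0 ptabs.n = true :=
  relOk_of_traceFix ptabs tabs.word 45 1 perm_g39_upto1
theorem perm_g40_upto0 : TraceFix ptabs.perm tabs.word 46 1 22880 :=
  traceFix_extend _ _ letL.get 1023 15 32767 perm_eq 46 1 0 22880 22880 rfl (traceFix_zero _ _ 46 1) perm_piece_40_0
theorem perm_g40 : ∀ r, 46 ≤ r → r < 46 + 1 → relOk ptabs (tabs.word r) 0 ptabs.n = true :=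
  relOk_of_traceFix ptabs tabs.word 46 1 perm_g40_upto0
theorem perm_g41_upto0 : TraceFix ptabs.perm tabs.word 47 1 8333 :=
  traceFix_extend _ _ letL.get 1023 15 32767 perm_eq 47 1 0 8333 8333 rfl (traceFix_zero _ _ 47 1) perm_piece_41_0
theorem perm_g41_upto1 : TraceFix ptabs.perm tabs.word 47 1 16666 :=
  traceFix_extend _ _ letL.get 1023 15 32767 perm_eq 47 1 8333 8333 16666 rfl perm_g41_upto0 perm_piece_41_1
theorem perm_g41_upto2 : TraceFix ptabs.perm tabs.word 47 1 22880 :=
  traceFix_extend _ _ letL.get 1023 15 32767 perm_eq 47 1 16666 6214 22880 rfl perm_g41_upto1 perm_piece_41_2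
theorem perm_g41 : ∀ r, 47 ≤ r → r < 47 + 1 → relOk ptabs (tabs.word r) 0 ptabs.n = true :=
  relOk_of_traceFix ptabs tabs.word 47 1 perm_g41_upto2
theorem perm_g42_upto0 : TraceFix ptabs.perm tabs.word 48 1 16666 :=
  traceFix_extend _ _ letL.get 1023 15 32767 perm_eq 48 1 0 16666 16666 rfl (traceFix_zero _ _ 48 1) perm_piece_42_0
theorem perm_g42_upto1 : TraceFix ptabs.perm tabs.word 48 1 22880 :=
  traceFix_extend _ _ letL.get 1023 15 32767 perm_eq 48 1 16666 6214 22880 rfl perm_g42_upto0 perm_piece_42_1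
theorem perm_g42 : ∀ r, 48 ≤ r → r < 48 + 1 → relOk ptabs (tabs.word r) 0 ptabs.n = true :=
  relOk_of_traceFix ptabs tabs.word 48 1 perm_g42_upto1
theorem perm_g43_upto0 : TraceFix ptabs.perm tabs.word 49 1 11111 :=
  traceFix_extend _ _ letL.get 1023 15 32767 perm_eq 49 1 0 11111 11111 rfl (traceFix_zero _ _ 49 1) perm_piece_43_0
theorem perm_g43_upto1 : TraceFix ptabs.perm tabs.word 49 1 22222 :=
  traceFix_extend _ _ letL.get 1023 15 32767 perm_eq 49 1 11111 11111 22222 rfl perm_g43_upto0 perm_piece_43_1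
theorem perm_g43_upto2 : TraceFix ptabs.perm tabs.word 49 1 22880 :=
  traceFix_extend _ _ letL.get 1023 15 32767 perm_eq 49 1 22222 658 22880 rfl perm_g43_upto1 perm_piece_43_2
theorem perm_g43 : ∀ r, 49 ≤ r → r < 49 + 1 → relOk ptabs (tabs.word r) 0 ptabs.n = true :=
  relOk_of_traceFix ptabs tabs.word 49 1 perm_g43_upto2
theorem perm_g44_upto0 : TraceFix ptabs.perm tabs.word 50 1 16666 :=
  traceFix_extend _ _ letL.get 1023 15 32767 perm_eq 50 1 0 16666 16666 rfl (traceFix_zero _ _ 50 1) perm_piece_44_0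
theorem perm_g44_upto1 : TraceFix ptabs.perm tabs.word 50 1 22880 :=
  traceFix_extend _ _ letL.get 1023 15 32767 perm_eq 50 1 16666 6214 22880 rfl perm_g44_upto0 perm_piece_44_1
theorem perm_g44 : ∀ r, 50 ≤ r → r < 50 + 1 → relOk ptabs (tabs.word r) 0 ptabs.n = true :=
  relOk_of_traceFix ptabs tabs.word 50 1 perm_g44_upto1
theorem perm_g45_upto0 : TraceFix ptabs.perm tabs.word 51 1 16666 :=
  traceFix_extend _ _ letL.get 1023 15 32767 perm_eq 51 1 0 16666 16666 rfl (traceFix_zero _ _ 51 1) perm_piece_45_0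
theorem perm_g45_upto1 : TraceFix ptabs.perm tabs.word 51 1 22880 :=
  traceFix_extend _ _ letL.get 1023 15 32767 perm_eq 51 1 16666 6214 22880 rfl perm_g45_upto0 perm_piece_45_1
theorem perm_g45 : ∀ r, 51 ≤ r → r < 51 + 1 → relOk ptabs (tabs.word r) 0 ptabs.n = true :=
  relOk_of_traceFix ptabs tabs.word 51 1 perm_g45_upto1
theorem perm_g46_upto0 : TraceFix ptabs.perm tabs.word 52 1 16666 :=
  traceFix_extend _ _ letL.get 1023 15 32767 perm_eq 52 1 0 16666 16666 rfl (traceFix_zero _ _ 52 1) perm_piece_46_0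
theorem perm_g46_upto1 : TraceFix ptabs.perm tabs.word 52 1 22880 :=
  traceFix_extend _ _ letL.get 1023 15 32767 perm_eq 52 1 16666 6214 22880 rfl perm_g46_upto0 perm_piece_46_1
theorem perm_g46 : ∀ r, 52 ≤ r → r < 52 + 1 → relOk ptabs (tabs.word r) 0 ptabs.n = true :=
  relOk_of_traceFix ptabs tabs.word 52 1 perm_g46_upto1
theorem perm_g47_upto0 : TraceFix ptabs.perm tabs.word 53 1 8333 :=
  traceFix_extend _ _ letL.get 1023 15 32767 perm_eq 53 1 0 8333 8333 rfl (traceFix_zero _ _ 53 1) perm_piece_47_0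
theorem perm_g47_upto1 : TraceFix ptabs.perm tabs.word 53 1 16666 :=
  traceFix_extend _ _ letL.get 1023 15 32767 perm_eq 53 1 8333 8333 16666 rfl perm_g47_upto0 perm_piece_47_1
theorem perm_g47_upto2 : TraceFix ptabs.perm tabs.word 53 1 22880 :=
  traceFix_extend _ _ letL.get 1023 15 32767 perm_eq 53 1 16666 6214 22880 rfl perm_g47_upto1 perm_piece_47_2
theorem perm_g47 : ∀ r, 53 ≤ r → r < 53 + 1 → relOk ptabs (tabs.word r) 0 ptabs.n = true :=
  relOk_of_traceFix ptabs tabs.word 53 1 perm_g47_upto2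
theorem perm_g48_upto0 : TraceFix ptabs.perm tabs.word 54 1 22880 :=
  traceFix_extend _ _ letL.get 1023 15 32767 perm_eq 54 1 0 22880 22880 rfl (traceFix_zero _ _ 54 1) perm_piece_48_0
theorem perm_g48 : ∀ r, 54 ≤ r → r < 54 + 1 → relOk ptabs (tabs.word r) 0 ptabs.n = true :=
  relOk_of_traceFix ptabs tabs.word 54 1 perm_g48_upto0
theorem perm_g49_upto0 : TraceFix ptabs.perm tabs.word 55 1 7407 :=
  traceFix_extend _ _ letL.get 1023 15 32767 perm_eq 55 1 0 7407 7407 rfl (traceFix_zero _ _ 55 1) perm_piece_49_0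
theorem perm_g49_upto1 : TraceFix ptabs.perm tabs.word 55 1 14814 :=
  traceFix_extend _ _ letL.get 1023 15 32767 perm_eq 55 1 7407 7407 14814 rfl perm_g49_upto0 perm_piece_49_1
theorem perm_g49_upto2 : TraceFix ptabs.perm tabs.word 55 1 22221 :=
  traceFix_extend _ _ letL.get 1023 15 32767 perm_eq 55 1 14814 7407 22221 rfl perm_g49_upto1 perm_piece_49_2
theorem perm_g49_upto3 : TraceFix ptabs.perm tabs.word 55 1 22880 :=
  traceFix_extend _ _ letL.get 1023 15 32767 perm_eq 55 1 22221 659 22880 rfl perm_g49_upto2 perm_piece_49_3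
theorem perm_g49 : ∀ r, 55 ≤ r → r < 55 + 1 → relOk ptabs (tabs.word r) 0 ptabs.n = true :=
  relOk_of_traceFix ptabs tabs.word 55 1 perm_g49_upto3
theorem perm_g50_upto0 : TraceFix ptabs.perm tabs.word 56 1 13333 :=
  traceFix_extend _ _ letL.get 1023 15 32767 perm_eq 56 1 0 13333 13333 rfl (traceFix_zero _ _ 56 1) perm_piece_50_0
theorem perm_g50_upto1 : TraceFix ptabs.perm tabs.word 56 1 22880 :=
  traceFix_extend _ _ letL.get 1023 15 32767 perm_eq 56 1 13333 9547 22880 rfl perm_g50_upto0 perm_piece_50_1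
theorem perm_g50 : ∀ r, 56 ≤ r → r < 56 + 1 → relOk ptabs (tabs.word r) 0 ptabs.n = true :=
  relOk_of_traceFix ptabs tabs.word 56 1 perm_g50_upto1
theorem perm_g51_upto0 : TraceFix ptabs.perm tabs.word 57 1 3333 :=
  traceFix_extend _ _ letL.get 1023 15 32767 perm_eq 57 1 0 3333 3333 rfl (traceFix_zero _ _ 57 1) perm_piece_51_0
theorem perm_g51_upto1 : TraceFix ptabs.perm tabs.word 57 1 6666 :=
  traceFix_extend _ _ letL.get 1023 15 32767 perm_eq 57 1 3333 3333 6666 rfl perm_g51_upto0 perm_piece_51_1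
theorem perm_g51_upto2 : TraceFix ptabs.perm tabs.word 57 1 9999 :=
  traceFix_extend _ _ letL.get 1023 15 32767 perm_eq 57 1 6666 3333 9999 rfl perm_g51_upto1 perm_piece_51_2
theorem perm_g51_upto3 : TraceFix ptabs.perm tabs.word 57 1 13332 :=
  traceFix_extend _ _ letL.get 1023 15 32767 perm_eq 57 1 9999 3333 13332 rfl perm_g51_upto2 perm_piece_51_3
theorem perm_g51_upto4 : TraceFix ptabs.perm tabs.word 57 1 16665 :=
  traceFix_extend _ _ letL.get 1023 15 32767 perm_eq 57 1 13332 3333 16665 rfl perm_g51_upto3 perm_piece_51_4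
theorem perm_g51_upto5 : TraceFix ptabs.perm tabs.word 57 1 19998 :=
  traceFix_extend _ _ letL.get 1023 15 32767 perm_eq 57 1 16665 3333 19998 rfl perm_g51_upto4 perm_piece_51_5
theorem perm_g51_upto6 : TraceFix ptabs.perm tabs.word 57 1 22880 :=
  traceFix_extend _ _ letL.get 1023 15 32767 perm_eq 57 1 19998 2882 22880 rfl perm_g51_upto5 perm_piece_51_6
theorem perm_g51 : ∀ r, 57 ≤ r → r < 57 + 1 → relOk ptabs (tabs.word r) 0 ptabs.n = true :=
  relOk_of_traceFix ptabs tabs.word 57 1 perm_g51_upto6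
theorem perm_g52_upto0 : TraceFix ptabs.perm tabs.word 58 1 4444 :=
  traceFix_extend _ _ letL.get 1023 15 32767 perm_eq 58 1 0 4444 4444 rfl (traceFix_zero _ _ 58 1) perm_piece_52_0
theorem perm_g52_upto1 : TraceFix ptabs.perm tabs.word 58 1 8888 :=
  traceFix_extend _ _ letL.get 1023 15 32767 perm_eq 58 1 4444 4444 8888 rfl perm_g52_upto0 perm_piece_52_1
theorem perm_g52_upto2 : TraceFix ptabs.perm tabs.word 58 1 13332 :=
  traceFix_extend _ _ letL.get 1023 15 32767 perm_eq 58 1 8888 4444 13332 rfl perm_g52_upto1 perm_piece_52_2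
theorem perm_g52_upto3 : TraceFix ptabs.perm tabs.word 58 1 17776 :=
  traceFix_extend _ _ letL.get 1023 15 32767 perm_eq 58 1 13332 4444 17776 rfl perm_g52_upto2 perm_piece_52_3
theorem perm_g52_upto4 : TraceFix ptabs.perm tabs.word 58 1 22220 :=
  traceFix_extend _ _ letL.get 1023 15 32767 perm_eq 58 1 17776 4444 22220 rfl perm_g52_upto3 perm_piece_52_4
theorem perm_g52_upto5 : TraceFix ptabs.perm tabs.word 58 1 22880 :=
  traceFix_extend _ _ letL.get 1023 15 32767 perm_eq 58 1 22220 660 22880 rfl perm_g52_upto4 perm_piece_52_5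
theorem perm_g52 : ∀ r, 58 ≤ r → r < 58 + 1 → relOk ptabs (tabs.word r) 0 ptabs.n = true :=
  relOk_of_traceFix ptabs tabs.word 58 1 perm_g52_upto5
theorem perm_g53_upto0 : TraceFix ptabs.perm tabs.word 59 1 854 :=
  traceFix_extend _ _ letL.get 1023 15 32767 perm_eq 59 1 0 854 854 rfl (traceFix_zero _ _ 59 1) perm_piece_53_0
theorem perm_g53_upto1 : TraceFix ptabs.perm tabs.word 59 1 1708 :=
  traceFix_extend _ _ letL.get 1023 15 32767 perm_eq 59 1 854 854 1708 rfl perm_g53_upto0 perm_piece_53_1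
theorem perm_g53_upto2 : TraceFix ptabs.perm tabs.word 59 1 2562 :=
  traceFix_extend _ _ letL.get 1023 15 32767 perm_eq 59 1 1708 854 2562 rfl perm_g53_upto1 perm_piece_53_2
theorem perm_g53_upto3 : TraceFix ptabs.perm tabs.word 59 1 3416 :=
  traceFix_extend _ _ letL.get 1023 15 32767 perm_eq 59 1 2562 854 3416 rfl perm_g53_upto2 perm_piece_53_3
theorem perm_g53_upto4 : TraceFix ptabs.perm tabs.word 59 1 4270 :=
  traceFix_extend _ _ letL.get 1023 15 32767 perm_eq 59 1 3416 854 4270 rfl perm_g53_upto3 perm_piece_53_4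
theorem perm_g53_upto5 : TraceFix ptabs.perm tabs.word 59 1 5124 :=
  traceFix_extend _ _ letL.get 1023 15 32767 perm_eq 59 1 4270 854 5124 rfl perm_g53_upto4 perm_piece_53_5
theorem perm_g53_upto6 : TraceFix ptabs.perm tabs.word 59 1 5978 :=
  traceFix_extend _ _ letL.get 1023 15 32767 perm_eq 59 1 5124 854 5978 rfl perm_g53_upto5 perm_piece_53_6
theorem perm_g53_upto7 : TraceFix ptabs.perm tabs.word 59 1 6832 :=
  traceFix_extend _ _ letL.get 1023 15 32767 perm_eq 59 1 5978 854 6832 rfl perm_g53_upto6 perm_piece_53_7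
theorem perm_g53_upto8 : TraceFix ptabs.perm tabs.word 59 1 7686 :=
  traceFix_extend _ _ letL.get 1023 15 32767 perm_eq 59 1 6832 854 7686 rfl perm_g53_upto7 perm_piece_53_8
theorem perm_g53_upto9 : TraceFix ptabs.perm tabs.word 59 1 8540 :=
  traceFix_extend _ _ letL.get 1023 15 32767 perm_eq 59 1 7686 854 8540 rfl perm_g53_upto8 perm_piece_53_9
theorem perm_g53_upto10 : TraceFix ptabs.perm tabs.word 59 1 9394 :=
  traceFix_extend _ _ letL.get 1023 15 32767 perm_eq 59 1 8540 854 9394 rfl perm_g53_upto9 perm_piece_53_10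
theorem perm_g53_upto11 : TraceFix ptabs.perm tabs.word 59 1 10248 :=
  traceFix_extend _ _ letL.get 1023 15 32767 perm_eq 59 1 9394 854 10248 rfl perm_g53_upto10 perm_piece_53_11
theorem perm_g53_upto12 : TraceFix ptabs.perm tabs.word 59 1 11102 :=
  traceFix_extend _ _ letL.get 1023 15 32767 perm_eq 59 1 10248 854 11102 rfl perm_g53_upto11 perm_piece_53_12
theorem perm_g53_upto13 : TraceFix ptabs.perm tabs.word 59 1 11956 :=
  traceFix_extend _ _ letL.get 1023 15 32767 perm_eq 59 1 11102 854 11956 rfl perm_g53_upto12 perm_piece_53_13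
theorem perm_g53_upto14 : TraceFix ptabs.perm tabs.word 59 1 12810 :=
  traceFix_extend _ _ letL.get 1023 15 32767 perm_eq 59 1 11956 854 12810 rfl perm_g53_upto13 perm_piece_53_14
theorem perm_g53_upto15 : TraceFix ptabs.perm tabs.word 59 1 13664 :=
  traceFix_extend _ _ letL.get 1023 15 32767 perm_eq 59 1 12810 854 13664 rfl perm_g53_upto14 perm_piece_53_15
theorem perm_g53_upto16 : TraceFix ptabs.perm tabs.word 59 1 14518 :=
  traceFix_extend _ _ letL.get 1023 15 32767 perm_eq 59 1 13664 854 14518 rfl perm_g53_upto15 perm_piece_53_16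
theorem perm_g53_upto17 : TraceFix ptabs.perm tabs.word 59 1 15372 :=
  traceFix_extend _ _ letL.get 1023 15 32767 perm_eq 59 1 14518 854 15372 rfl perm_g53_upto16 perm_piece_53_17
theorem perm_g53_upto18 : TraceFix ptabs.perm tabs.word 59 1 16226 :=
  traceFix_extend _ _ letL.get 1023 15 32767 perm_eq 59 1 15372 854 16226 rfl perm_g53_upto17 perm_piece_53_18
theorem perm_g53_upto19 : TraceFix ptabs.perm tabs.word 59 1 17080 :=
  traceFix_extend _ _ letL.get 1023 15 32767 perm_eq 59 1 16226 854 17080 rfl perm_g53_upto18 perm_piece_53_19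
theorem perm_g53_upto20 : TraceFix ptabs.perm tabs.word 59 1 17934 :=
  traceFix_extend _ _ letL.get 1023 15 32767 perm_eq 59 1 17080 854 17934 rfl perm_g53_upto19 perm_piece_53_20
theorem perm_g53_upto21 : TraceFix ptabs.perm tabs.word 59 1 18788 :=
  traceFix_extend _ _ letL.get 1023 15 32767 perm_eq 59 1 17934 854 18788 rfl perm_g53_upto20 perm_piece_53_21
theorem perm_g53_upto22 : TraceFix ptabs.perm tabs.word 59 1 19642 :=
  traceFix_extend _ _ letL.get 1023 15 32767 perm_eq 59 1 18788 854 19642 rfl perm_g53_upto21 perm_piece_53_22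
theorem perm_g53_upto23 : TraceFix ptabs.perm tabs.word 59 1 20496 :=
  traceFix_extend _ _ letL.get 1023 15 32767 perm_eq 59 1 19642 854 20496 rfl perm_g53_upto22 perm_piece_53_23
theorem perm_g53_upto24 : TraceFix ptabs.perm tabs.word 59 1 21350 :=
  traceFix_extend _ _ letL.get 1023 15 32767 perm_eq 59 1 20496 854 21350 rfl perm_g53_upto23 perm_piece_53_24
theorem perm_g53_upto25 : TraceFix ptabs.perm tabs.word 59 1 22204 :=
  traceFix_extend _ _ letL.get 1023 15 32767 perm_eq 59 1 21350 854 22204 rfl perm_g53_upto24 perm_piece_53_25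
theorem perm_g53_upto26 : TraceFix ptabs.perm tabs.word 59 1 22880 :=
  traceFix_extend _ _ letL.get 1023 15 32767 perm_eq 59 1 22204 676 22880 rfl perm_g53_upto25 perm_piece_53_26
theorem perm_g53 : ∀ r, 59 ≤ r → r < 59 + 1 → relOk ptabs (tabs.word r) 0 ptabs.n = true :=
  relOk_of_traceFix ptabs tabs.word 59 1 perm_g53_upto26
theorem perm_all : ∀ r, 6 ≤ r → r < 60 → relOk ptabs (tabs.word r) 0 ptabs.n = true := by
  intro r h1 h2
  by_cases c0 : r < 7
  · exact perm_g0 r (by omega) (by omega)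
  by_cases c1 : r < 8
  · exact perm_g1 r (by omega) (by omega)
  by_cases c2 : r < 9
  · exact perm_g2 r (by omega) (by omega)
  by_cases c3 : r < 10
  · exact perm_g3 r (by omega) (by omega)
  by_cases c4 : r < 11
  · exact perm_g4 r (by omega) (by omega)
  by_cases c5 : r < 12
  · exact perm_g5 r (by omega) (by omega)
  by_cases c6 : r < 13
  · exact perm_g6 r (by omega) (by omega)
  by_cases c7 : r < 14
  · exact perm_g7 r (by omega) (by omega)
  by_cases c8 : r < 15
  · exact perm_g8 r (by omega) (by omega)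
  by_cases c9 : r < 16
  · exact perm_g9 r (by omega) (by omega)
  by_cases c10 : r < 17
  · exact perm_g10 r (by omega) (by omega)
  by_cases c11 : r < 18
  · exact perm_g11 r (by omega) (by omega)
  by_cases c12 : r < 19
  · exact perm_g12 r (by omega) (by omega)
  by_cases c13 : r < 20
  · exact perm_g13 r (by omega) (by omega)
  by_cases c14 : r < 21
  · exact perm_g14 r (by omega) (by omega)
  by_cases c15 : r < 22
  · exact perm_g15 r (by omega) (by omega)
  by_cases c16 : r < 23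
  · exact perm_g16 r (by omega) (by omega)
  by_cases c17 : r < 24
  · exact perm_g17 r (by omega) (by omega)
  by_cases c18 : r < 25
  · exact perm_g18 r (by omega) (by omega)
  by_cases c19 : r < 26
  · exact perm_g19 r (by omega) (by omega)
  by_cases c20 : r < 27
  · exact perm_g20 r (by omega) (by omega)
  by_cases c21 : r < 28
  · exact perm_g21 r (by omega) (by omega)
  by_cases c22 : r < 29
  · exact perm_g22 r (by omega) (by omega)
  by_cases c23 : r < 30
  · exact perm_g23 r (by omega) (by omega)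
  by_cases c24 : r < 31
  · exact perm_g24 r (by omega) (by omega)
  by_cases c25 : r < 32
  · exact perm_g25 r (by omega) (by omega)
  by_cases c26 : r < 33
  · exact perm_g26 r (by omega) (by omega)
  by_cases c27 : r < 34
  · exact perm_g27 r (by omega) (by omega)
  by_cases c28 : r < 35
  · exact perm_g28 r (by omega) (by omega)
  by_cases c29 : r < 36
  · exact perm_g29 r (by omega) (by omega)
  by_cases c30 : r < 37
  · exact perm_g30 r (by omega) (by omega)
  by_cases c31 : r < 38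
  · exact perm_g31 r (by omega) (by omega)
  by_cases c32 : r < 39
  · exact perm_g32 r (by omega) (by omega)
  by_cases c33 : r < 40
  · exact perm_g33 r (by omega) (by omega)
  by_cases c34 : r < 41
  · exact perm_g34 r (by omega) (by omega)
  by_cases c35 : r < 42
  · exact perm_g35 r (by omega) (by omega)
  by_cases c36 : r < 43
  · exact perm_g36 r (by omega) (by omega)
  by_cases c37 : r < 44
  · exact perm_g37 r (by omega) (by omega)
  by_cases c38 : r < 45
  · exact perm_g38 r (by omega) (by omega)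
  by_cases c39 : r < 46
  · exact perm_g39 r (by omega) (by omega)
  by_cases c40 : r < 47
  · exact perm_g40 r (by omega) (by omega)
  by_cases c41 : r < 48
  · exact perm_g41 r (by omega) (by omega)
  by_cases c42 : r < 49
  · exact perm_g42 r (by omega) (by omega)
  by_cases c43 : r < 50
  · exact perm_g43 r (by omega) (by omega)
  by_cases c44 : r < 51
  · exact perm_g44 r (by omega) (by omega)
  by_cases c45 : r < 52
  · exact perm_g45 r (by omega) (by omega)
  by_cases c46 : r < 53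
  · exact perm_g46 r (by omega) (by omega)
  by_cases c47 : r < 54
  · exact perm_g47 r (by omega) (by omega)
  by_cases c48 : r < 55
  · exact perm_g48 r (by omega) (by omega)
  by_cases c49 : r < 56
  · exact perm_g49 r (by omega) (by omega)
  by_cases c50 : r < 57
  · exact perm_g50 r (by omega) (by omega)
  by_cases c51 : r < 58
  · exact perm_g51 r (by omega) (by omega)
  by_cases c52 : r < 59
  · exact perm_g52 r (by omega) (by omega)
  by_cases c53 : r < 60
  · exact perm_g53 r (by omega) (by omega)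
  omega
theorem subfix_all : ∀ r, r < 6 → relOk ptabs (tabs.word r) 0 1 = true := allLt_sound _ _ subfix_ok
end Cfsg.Agent.Helper28.Suz2
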