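import Cfsg.Agent.Helper28.Suz2.D0
import Cfsg.Agent.Helper28.Suz2.D1
import Cfsg.Agent.Helper28.Suz2.D2
import Cfsg.Agent.Helper28.Suz2.D3
set_option autoImplicit false
set_option maxRecDepth 1000000
namespace Cfsg.Agent.Helper28.Suz2
open Cfsg.Agent.Helper28
def factsB : BTr := (.node 77824 (.node 38912 (.node 19456 (.node 9216 (.node 4096 (.node 2048 (.node 1024 (.leaf lf0) (.leaf lf1)) (.node 3072 (.leaf lf2) (.leaf lf3))) (.node 6144 (.node 5120 (.leaf lf4) (.leaf lf5)) (.node 7168 (.leaf lf6) (.node 8192 (.leaf lf7) (.leaf lf8))))) (.node 14336 (.node 11264 (.node 10240 (.leaf lf9) (.leaf lf10)) (.node 12288 (.leaf lf11) (.node 13312 (.leaf lf12) (.leaf lf13)))) (.node 16384 (.node 15360 (.leaf lf14) (.leaf lf15)) (.node 17408 (.leaf lf16) (.node 18432 (.leaf lf17) (.leaf lf18)))))) (.node 28672 (.node 23552 (.node 21504 (.node 20480 (.leaf lf19) (.leaf lf20)) (.node 22528 (.leaf lf21) (.leaf lf22))) (.node 25600 (.node 24576 (.leaf lf23) (.leaf lf24)) (.node 26624 (.leaf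 lf25) (.node 27648 (.leaf lf26) (.leaf lf27))))) (.node 33792 (.node 30720 (.node 29696 (.leaf lf28) (.leaf lf29)) (.node 31744 (.leaf lf30) (.node 32768 (.leaf lf31) (.leaf lf32)))) (.node 35840 (.node 34816 (.leaf lf33) (.leaf lf34)) (.node 36864 (.leaf lf35) (.node 37888 (.leaf lf36) (.leaf lf37))))))) (.node 58368 (.node 48128 (.node 43008 (.node 40960 (.node 39936 (.leaf lf38) (.leaf lf39)) (.node 41984 (.leaf lf40) (.leaf lf41))) (.node 45056 (.node 44032 (.leaf lf42) (.leaf lf43)) (.node 46080 (.leaf lf44) (.node 47104 (.leaf lf45) (.leaf lf46))))) (.node 53248 (.node 50176 (.node 49152 (.leaf lf47) (.leaf lf48)) (.node 51200 (.leaf lf49) (.node 52224 (.leaf lf50) (.leaf lf51)))) (.node 55296 (.node 54272 (.leaf lf52) (.leaf lf53)) (.node 56320 (.leaf lf54) (.node 57344 (.leaf lf55) (.leaf lf56)))))) (.node 67584 (.node 62464 (.node 60416 (.node 59392 (.leaf lf57) (.leaf lf58)) (.node 61440 (.leaf lf59) (.leaf lf60))) (.node 64512 (.node 63488 (.leaf lf61) (.leaf lf62))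 (.node 65536 (.leaf lf63) (.node 66560 (.leaf lf64) (.leaf lf65))))) (.node 72704 (.node 69632 (.node 68608 (.leaf lf66) (.leaf lf67)) (.node 70656 (.leaf lf68) (.node 71680 (.leaf lf69) (.leaf lf70)))) (.node 74752 (.node 73728 (.leaf lf71) (.leaf lf72)) (.node 75776 (.leaf lf73) (.node 76800 (.leaf lf74) (.leaf lf75)))))))) (.node 116736 (.node 97280 (.node 87040 (.node 81920 (.node 79872 (.node 78848 (.leaf lf76) (.leaf lf77)) (.node 80896 (.leaf lf78) (.leaf lf79))) (.node 83968 (.node 82944 (.leaf lf80) (.leaf lf81)) (.node 84992 (.leaf lf82) (.node 86016 (.leaf lf83) (.leaf lf84))))) (.node 92160 (.node 89088 (.node 88064 (.leaf lf85) (.leaf lf86)) (.node 90112 (.leaf lf87) (.node 91136 (.leaf lf88) (.leaf lf89)))) (.node 94208 (.node 93184 (.leaf lf90) (.leaf lf91)) (.node 95232 (.leaf lf92) (.node 96256 (.leaf lf93) (.leaf lf94)))))) (.node 106496 (.node 101376 (.node 99328 (.node 98304 (.leaf lf95) (.leaf lf96)) (.node 100352 (.leaf lf97) (.leaf lf98))) (.node 103424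 (.node 102400 (.leaf lf99) (.leaf lf100)) (.node 104448 (.leaf lf101) (.node 105472 (.leaf lf102) (.leaf lf103))))) (.node 111616 (.node 108544 (.node 107520 (.leaf lf104) (.leaf lf105)) (.node 109568 (.leaf lf106) (.node 110592 (.leaf lf107) (.leaf lf108)))) (.node 113664 (.node 112640 (.leaf lf109) (.leaf lf110)) (.node 114688 (.leaf lf111) (.node 115712 (.leaf lf112) (.leaf lf113))))))) (.node 136192 (.node 125952 (.node 120832 (.node 118784 (.node 117760 (.leaf lf114) (.leaf lf115)) (.node 119808 (.leaf lf116) (.leaf lf117))) (.node 122880 (.node 121856 (.leaf lf118) (.leaf lf119)) (.node 123904 (.leaf lf120) (.node 124928 (.leaf lf121) (.leaf lf122))))) (.node 131072 (.node 128000 (.node 126976 (.leaf lf123) (.leaf lf124)) (.node 129024 (.leaf lf125) (.node 130048 (.leaf lf126) (.leaf lf127)))) (.node 133120 (.node 132096 (.leaf lf128) (.leaf lf129)) (.node 134144 (.leaf lf130) (.node 135168 (.leaf lf131) (.leaf lf132)))))) (.node 146432 (.node 141312 (.node 138240 (.node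 137216 (.leaf lf133) (.leaf lf134)) (.node 139264 (.leaf lf135) (.node 140288 (.leaf lf136) (.leaf lf137)))) (.node 143360 (.node 142336 (.leaf lf138) (.leaf lf139)) (.node 144384 (.leaf lf140) (.node 145408 (.leaf lf141) (.leaf lf142))))) (.node 151552 (.node 148480 (.node 147456 (.leaf lf143) (.leaf lf144)) (.node 149504 (.leaf lf145) (.node 150528 (.leaf lf146) (.leaf lf147)))) (.node 153600 (.node 152576 (.leaf lf148) (.leaf lf149)) (.node 154624 (.leaf lf150) (.node 155648 (.leaf lf151) (.leaf lf152)))))))))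
def defsB : BTr := (.node 13312 (.node 6144 (.node 3072 (.node 1024 (.leaf lf153) (.node 2048 (.leaf lf154) (.leaf lf155))) (.node 4096 (.leaf lf156) (.node 5120 (.leaf lf157) (.leaf lf158)))) (.node 9216 (.node 7168 (.leaf lf159) (.node 8192 (.leaf lf160) (.leaf lf161))) (.node 11264 (.node 10240 (.leaf lf162) (.leaf lf163)) (.node 12288 (.leaf lf164) (.leaf lf165))))) (.node 20480 (.node 16384 (.node 14336 (.leaf lf166) (.node 15360 (.leaf lf167) (.leaf lf168))) (.node 18432 (.node 17408 (.leaf lf169) (.leaf lf170)) (.node 19456 (.leaf lf171) (.leaf lf172)))) (.node 23552 (.node 21504 (.leaf lf173) (.node 22528 (.leaf lf174) (.leaf lf175))) (.node 25600 (.node 24576 (.leaf lf176) (.leaf lf177)) (.node 26624 (.leaf lf178) (.leaf lf179))))))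
def finB : BTr := (.node 159744 (.node 79872 (.node 39936 (.node 19456 (.node 9216 (.node 4096 (.node 2048 (.node 1024 (.leaf lf180) (.leaf lf181)) (.node 3072 (.leaf lf182) (.leaf lf183))) (.node 6144 (.node 5120 (.leaf lf184) (.leaf lf185)) (.node 7168 (.leaf lf186) (.node 8192 (.leaf lf187) (.leaf lf188))))) (.node 14336 (.node 11264 (.node 10240 (.leaf lf189) (.leaf lf190)) (.node 12288 (.leaf lf191) (.node 13312 (.leaf lf192) (.leaf lf193)))) (.node 16384 (.node 15360 (.leaf lf194) (.leaf lf195)) (.node 17408 (.leaf lf196) (.node 18432 (.leaf lf197) (.leaf lf198)))))) (.node 29696 (.node 24576 (.node 21504 (.node 20480 (.leaf lf199) (.leaf lf200)) (.node 22528 (.leaf lf201) (.node 23552 (.leaf lf202) (.leaf lf203)))) (.node 26624 (.node 25600 (.leaf lf204) (.leaf lf205)) (.node 27648 (.leaf lf206) (.node 28672 (.leaf lf207) (.leaf lf208))))) (.node 34816 (.node 31744 (.node 30720 (.leaf lf209) (.leaf lf210)) (.node 32768 (.leaf lf211) (.node 33792 (.leaf lf212) (.leaf lf213))))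 (.node 36864 (.node 35840 (.leaf lf214) (.leaf lf215)) (.node 37888 (.leaf lf216) (.node 38912 (.leaf lf217) (.leaf lf218))))))) (.node 59392 (.node 49152 (.node 44032 (.node 41984 (.node 40960 (.leaf lf219) (.leaf lf220)) (.node 43008 (.leaf lf221) (.leaf lf222))) (.node 46080 (.node 45056 (.leaf lf223) (.leaf lf224)) (.node 47104 (.leaf lf225) (.node 48128 (.leaf lf226) (.leaf lf227))))) (.node 54272 (.node 51200 (.node 50176 (.leaf lf228) (.leaf lf229)) (.node 52224 (.leaf lf230) (.node 53248 (.leaf lf231) (.leaf lf232)))) (.node 56320 (.node 55296 (.leaf lf233) (.leaf lf234)) (.node 57344 (.leaf lf235) (.node 58368 (.leaf lf236) (.leaf lf237)))))) (.node 69632 (.node 64512 (.node 61440 (.node 60416 (.leaf lf238) (.leaf lf239)) (.node 62464 (.leaf lf240) (.node 63488 (.leaf lf241) (.leaf lf242)))) (.node 66560 (.node 65536 (.leaf lf243) (.leaf lf244)) (.node 67584 (.leaf lf245) (.node 68608 (.leaf lf246) (.leaf lf247))))) (.node 74752 (.node 71680 (.node 70656 (.leaf lf248)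 (.leaf lf249)) (.node 72704 (.leaf lf250) (.node 73728 (.leaf lf251) (.leaf lf252)))) (.node 76800 (.node 75776 (.leaf lf253) (.leaf lf254)) (.node 77824 (.leaf lf255) (.node 78848 (.leaf lf256) (.leaf lf257)))))))) (.node 119808 (.node 99328 (.node 89088 (.node 83968 (.node 81920 (.node 80896 (.leaf lf258) (.leaf lf259)) (.node 82944 (.leaf lf260) (.leaf lf261))) (.node 86016 (.node 84992 (.leaf lf262) (.leaf lf263)) (.node 87040 (.leaf lf264) (.node 88064 (.leaf lf265) (.leaf lf266))))) (.node 94208 (.node 91136 (.node 90112 (.leaf lf267) (.leaf lf268)) (.node 92160 (.leaf lf269) (.node 93184 (.leaf lf270) (.leaf lf271)))) (.node 96256 (.node 95232 (.leaf lf272) (.leaf lf273)) (.node 97280 (.leaf lf274) (.node 98304 (.leaf lf275) (.leaf lf276)))))) (.node 109568 (.node 104448 (.node 101376 (.node 100352 (.leaf lf277) (.leaf lf278)) (.node 102400 (.leaf lf279) (.node 103424 (.leaf lf280) (.leaf lf281)))) (.node 106496 (.node 105472 (.leaf lf282) (.leaf lf283)) (.node 107520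 (.leaf lf284) (.node 108544 (.leaf lf285) (.leaf lf286))))) (.node 114688 (.node 111616 (.node 110592 (.leaf lf287) (.leaf lf288)) (.node 112640 (.leaf lf289) (.node 113664 (.leaf lf290) (.leaf lf291)))) (.node 116736 (.node 115712 (.leaf lf292) (.leaf lf293)) (.node 117760 (.leaf lf294) (.node 118784 (.leaf lf295) (.leaf lf296))))))) (.node 139264 (.node 129024 (.node 123904 (.node 121856 (.node 120832 (.leaf lf297) (.leaf lf298)) (.node 122880 (.leaf lf299) (.leaf lf300))) (.node 125952 (.node 124928 (.leaf lf301) (.leaf lf302)) (.node 126976 (.leaf lf303) (.node 128000 (.leaf lf304) (.leaf lf305))))) (.node 134144 (.node 131072 (.node 130048 (.leaf lf306) (.leaf lf307)) (.node 132096 (.leaf lf308) (.node 133120 (.leaf lf309) (.leaf lf310)))) (.node 136192 (.node 135168 (.leaf lf311) (.leaf lf312)) (.node 137216 (.leaf lf313) (.node 138240 (.leaf lf314) (.leaf lf315)))))) (.node 149504 (.node 144384 (.node 141312 (.node 140288 (.leaf lf316) (.leaf lf317)) (.node 142336 (.leaf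 lf318) (.node 143360 (.leaf lf319) (.leaf lf320)))) (.node 146432 (.node 145408 (.leaf lf321) (.leaf lf322)) (.node 147456 (.leaf lf323) (.node 148480 (.leaf lf324) (.leaf lf325))))) (.node 154624 (.node 151552 (.node 150528 (.leaf lf326) (.leaf lf327)) (.node 152576 (.leaf lf328) (.node 153600 (.leaf lf329) (.leaf lf330)))) (.node 156672 (.node 155648 (.leaf lf331) (.leaf lf332)) (.node 157696 (.leaf lf333) (.node 158720 (.leaf lf334) (.leaf lf335))))))))) (.node 239616 (.node 199680 (.node 179200 (.node 168960 (.node 163840 (.node 161792 (.node 160768 (.leaf lf336) (.leaf lf337)) (.node 162816 (.leaf lf338) (.leaf lf339))) (.node 165888 (.node 164864 (.leaf lf340) (.leaf lf341)) (.node 166912 (.leaf lf342) (.node 167936 (.leaf lf343) (.leaf lf344))))) (.node 174080 (.node 171008 (.node 169984 (.leaf lf345) (.leaf lf346)) (.node 172032 (.leaf lf347) (.node 173056 (.leaf lf348) (.leaf lf349)))) (.node 176128 (.node 175104 (.leaf lf350) (.leaf lf351)) (.node 177152 (.leaf lf352)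 (.node 178176 (.leaf lf353) (.leaf lf354)))))) (.node 189440 (.node 184320 (.node 181248 (.node 180224 (.leaf lf355) (.leaf lf356)) (.node 182272 (.leaf lf357) (.node 183296 (.leaf lf358) (.leaf lf359)))) (.node 186368 (.node 185344 (.leaf lf360) (.leaf lf361)) (.node 187392 (.leaf lf362) (.node 188416 (.leaf lf363) (.leaf lf364))))) (.node 194560 (.node 191488 (.node 190464 (.leaf lf365) (.leaf lf366)) (.node 192512 (.leaf lf367) (.node 193536 (.leaf lf368) (.leaf lf369)))) (.node 196608 (.node 195584 (.leaf lf370) (.leaf lf371)) (.node 197632 (.leaf lf372) (.node 198656 (.leaf lf373) (.leaf lf374))))))) (.node 219136 (.node 208896 (.node 203776 (.node 201728 (.node 200704 (.leaf lf375) (.leaf lf376)) (.node 202752 (.leaf lf377) (.leaf lf378))) (.node 205824 (.node 204800 (.leaf lf379) (.leaf lf380)) (.node 206848 (.leaf lf381) (.node 207872 (.leaf lf382) (.leaf lf383))))) (.node 214016 (.node 210944 (.node 209920 (.leaf lf384) (.leaf lf385)) (.node 211968 (.leaf lf386) (.node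 212992 (.leaf lf387) (.leaf lf388)))) (.node 216064 (.node 215040 (.leaf lf389) (.leaf lf390)) (.node 217088 (.leaf lf391) (.node 218112 (.leaf lf392) (.leaf lf393)))))) (.node 229376 (.node 224256 (.node 221184 (.node 220160 (.leaf lf394) (.leaf lf395)) (.node 222208 (.leaf lf396) (.node 223232 (.leaf lf397) (.leaf lf398)))) (.node 226304 (.node 225280 (.leaf lf399) (.leaf lf400)) (.node 227328 (.leaf lf401) (.node 228352 (.leaf lf402) (.leaf lf403))))) (.node 234496 (.node 231424 (.node 230400 (.leaf lf404) (.leaf lf405)) (.node 232448 (.leaf lf406) (.node 233472 (.leaf lf407) (.leaf lf408)))) (.node 236544 (.node 235520 (.leaf lf409) (.leaf lf410)) (.node 237568 (.leaf lf411) (.node 238592 (.leaf lf412) (.leaf lf413)))))))) (.node 279552 (.node 259072 (.node 248832 (.node 243712 (.node 241664 (.node 240640 (.leaf lf414) (.leaf lf415)) (.node 242688 (.leaf lf416) (.leaf lf417))) (.node 245760 (.node 244736 (.leaf lf418) (.leaf lf419)) (.node 246784 (.leaf lf420) (.node 247808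 (.leaf lf421) (.leaf lf422))))) (.node 253952 (.node 250880 (.node 249856 (.leaf lf423) (.leaf lf424)) (.node 251904 (.leaf lf425) (.node 252928 (.leaf lf426) (.leaf lf427)))) (.node 256000 (.node 254976 (.leaf lf428) (.leaf lf429)) (.node 257024 (.leaf lf430) (.node 258048 (.leaf lf431) (.leaf lf432)))))) (.node 269312 (.node 264192 (.node 261120 (.node 260096 (.leaf lf433) (.leaf lf434)) (.node 262144 (.leaf lf435) (.node 263168 (.leaf lf436) (.leaf lf437)))) (.node 266240 (.node 265216 (.leaf lf438) (.leaf lf439)) (.node 267264 (.leaf lf440) (.node 268288 (.leaf lf441) (.leaf lf442))))) (.node 274432 (.node 271360 (.node 270336 (.leaf lf443) (.leaf lf444)) (.node 272384 (.leaf lf445) (.node 273408 (.leaf lf446) (.leaf lf447)))) (.node 276480 (.node 275456 (.leaf lf448) (.leaf lf449)) (.node 277504 (.leaf lf450) (.node 278528 (.leaf lf451) (.leaf lf452))))))) (.node 300032 (.node 289792 (.node 284672 (.node 281600 (.node 280576 (.leaf lf453) (.leaf lf454)) (.node 282624 (.leaf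 lf455) (.node 283648 (.leaf lf456) (.leaf lf457)))) (.node 286720 (.node 285696 (.leaf lf458) (.leaf lf459)) (.node 287744 (.leaf lf460) (.node 288768 (.leaf lf461) (.leaf lf462))))) (.node 294912 (.node 291840 (.node 290816 (.leaf lf463) (.leaf lf464)) (.node 292864 (.leaf lf465) (.node 293888 (.leaf lf466) (.leaf lf467)))) (.node 296960 (.node 295936 (.leaf lf468) (.leaf lf469)) (.node 297984 (.leaf lf470) (.node 299008 (.leaf lf471) (.leaf lf472)))))) (.node 310272 (.node 305152 (.node 302080 (.node 301056 (.leaf lf473) (.leaf lf474)) (.node 303104 (.leaf lf475) (.node 304128 (.leaf lf476) (.leaf lf477)))) (.node 307200 (.node 306176 (.leaf lf478) (.leaf lf479)) (.node 308224 (.leaf lf480) (.node 309248 (.leaf lf481) (.leaf lf482))))) (.node 315392 (.node 312320 (.node 311296 (.leaf lf483) (.leaf lf484)) (.node 313344 (.leaf lf485) (.node 314368 (.leaf lf486) (.leaf lf487)))) (.node 317440 (.node 316416 (.leaf lf488) (.leaf lf489)) (.node 318464 (.leaf lf490) (.node 319488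 (.leaf lf491) (.leaf lf492))))))))))
def parB : BTr := (.node 11264 (.node 5120 (.node 2048 (.node 1024 (.leaf lf493) (.leaf lf494)) (.node 3072 (.leaf lf495) (.node 4096 (.leaf lf496) (.leaf lf497)))) (.node 8192 (.node 6144 (.leaf lf498) (.node 7168 (.leaf lf499) (.leaf lf500))) (.node 9216 (.leaf lf501) (.node 10240 (.leaf lf502) (.leaf lf503))))) (.node 17408 (.node 14336 (.node 12288 (.leaf lf504) (.node 13312 (.leaf lf505) (.leaf lf506))) (.node 15360 (.leaf lf507) (.node 16384 (.leaf lf508) (.leaf lf509)))) (.node 20480 (.node 18432 (.leaf lf510) (.node 19456 (.leaf lf511) (.leaf lf512))) (.node 21504 (.leaf lf513) (.node 22528 (.leaf lf514) (.leaf lf515))))))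
def letB0 : BTr := (.node 11264 (.node 5120 (.node 2048 (.node 1024 (.leaf lf516) (.leaf lf517)) (.node 3072 (.leaf lf518) (.node 4096 (.leaf lf519) (.leaf lf520)))) (.node 8192 (.node 6144 (.leaf lf521) (.node 7168 (.leaf lf522) (.leaf lf523))) (.node 9216 (.leaf lf524) (.node 10240 (.leaf lf525) (.leaf lf526))))) (.node 17408 (.node 14336 (.node 12288 (.leaf lf527) (.node 13312 (.leaf lf528) (.leaf lf529))) (.node 15360 (.leaf lf530) (.node 16384 (.leaf lf531) (.leaf lf532)))) (.node 20480 (.node 18432 (.leaf lf533) (.node 19456 (.leaf lf534) (.leaf lf535))) (.node 21504 (.leaf lf536) (.node 22528 (.leaf lf537) (.leaf lf538))))))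
def letB1 : BTr := (.node 11264 (.node 5120 (.node 2048 (.node 1024 (.leaf lf539) (.leaf lf540)) (.node 3072 (.leaf lf541) (.node 4096 (.leaf lf542) (.leaf lf543)))) (.node 8192 (.node 6144 (.leaf lf544) (.node 7168 (.leaf lf545) (.leaf lf546))) (.node 9216 (.leaf lf547) (.node 10240 (.leaf lf548) (.leaf lf549))))) (.node 17408 (.node 14336 (.node 12288 (.leaf lf550) (.node 13312 (.leaf lf551) (.leaf lf552))) (.node 15360 (.leaf lf553) (.node 16384 (.leaf lf554) (.leaf lf555)))) (.node 20480 (.node 18432 (.leaf lf556) (.node 19456 (.leaf lf557) (.leaf lf558))) (.node 21504 (.leaf lf559) (.node 22528 (.leaf lf560) (.leaf lf561))))))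
def letB2 : BTr := (.node 11264 (.node 5120 (.node 2048 (.node 1024 (.leaf lf562) (.leaf lf563)) (.node 3072 (.leaf lf564) (.node 4096 (.leaf lf565) (.leaf lf566)))) (.node 8192 (.node 6144 (.leaf lf567) (.node 7168 (.leaf lf568) (.leaf lf569))) (.node 9216 (.leaf lf570) (.node 10240 (.leaf lf571) (.leaf lf572))))) (.node 17408 (.node 14336 (.node 12288 (.leaf lf573) (.node 13312 (.leaf lf574) (.leaf lf575))) (.node 15360 (.leaf lf576) (.node 16384 (.leaf lf577) (.leaf lf578)))) (.node 20480 (.node 18432 (.leaf lf579) (.node 19456 (.leaf lf580) (.leaf lf581))) (.node 21504 (.leaf lf582) (.node 22528 (.leaf lf583) (.leaf lf584))))))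
def letB3 : BTr := (.node 11264 (.node 5120 (.node 2048 (.node 1024 (.leaf lf585) (.leaf lf586)) (.node 3072 (.leaf lf587) (.node 4096 (.leaf lf588) (.leaf lf589)))) (.node 8192 (.node 6144 (.leaf lf590) (.node 7168 (.leaf lf591) (.leaf lf592))) (.node 9216 (.leaf lf593) (.node 10240 (.leaf lf594) (.leaf lf595))))) (.node 17408 (.node 14336 (.node 12288 (.leaf lf596) (.node 13312 (.leaf lf597) (.leaf lf598))) (.node 15360 (.leaf lf599) (.node 16384 (.leaf lf600) (.leaf lf601)))) (.node 20480 (.node 18432 (.leaf lf602) (.node 19456 (.leaf lf603) (.leaf lf604))) (.node 21504 (.leaf lf605) (.node 22528 (.leaf lf606) (.leaf lf607))))))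
def letB4 : BTr := (.node 11264 (.node 5120 (.node 2048 (.node 1024 (.leaf lf608) (.leaf lf609)) (.node 3072 (.leaf lf610) (.node 4096 (.leaf lf611) (.leaf lf612)))) (.node 8192 (.node 6144 (.leaf lf613) (.node 7168 (.leaf lf614) (.leaf lf615))) (.node 9216 (.leaf lf616) (.node 10240 (.leaf lf617) (.leaf lf618))))) (.node 17408 (.node 14336 (.node 12288 (.leaf lf619) (.node 13312 (.leaf lf620) (.leaf lf621))) (.node 15360 (.leaf lf622) (.node 16384 (.leaf lf623) (.leaf lf624)))) (.node 20480 (.node 18432 (.leaf lf625) (.node 19456 (.leaf lf626) (.leaf lf627))) (.node 21504 (.leaf lf628) (.node 22528 (.leaf lf629) (.leaf lf630))))))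
def letB5 : BTr := (.node 11264 (.node 5120 (.node 2048 (.node 1024 (.leaf lf631) (.leaf lf632)) (.node 3072 (.leaf lf633) (.node 4096 (.leaf lf634) (.leaf lf635)))) (.node 8192 (.node 6144 (.leaf lf636) (.node 7168 (.leaf lf637) (.leaf lf638))) (.node 9216 (.leaf lf639) (.node 10240 (.leaf lf640) (.leaf lf641))))) (.node 17408 (.node 14336 (.node 12288 (.leaf lf642) (.node 13312 (.leaf lf643) (.leaf lf644))) (.node 15360 (.leaf lf645) (.node 16384 (.leaf lf646) (.leaf lf647)))) (.node 20480 (.node 18432 (.leaf lf648) (.node 19456 (.leaf lf649) (.leaf lf650))) (.node 21504 (.leaf lf651) (.node 22528 (.leaf lf652) (.leaf lf653))))))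
def letB6 : BTr := (.node 11264 (.node 5120 (.node 2048 (.node 1024 (.leaf lf654) (.leaf lf655)) (.node 3072 (.leaf lf656) (.node 4096 (.leaf lf657) (.leaf lf658)))) (.node 8192 (.node 6144 (.leaf lf659) (.node 7168 (.leaf lf660) (.leaf lf661))) (.node 9216 (.leaf lf662) (.node 10240 (.leaf lf663) (.leaf lf664))))) (.node 17408 (.node 14336 (.node 12288 (.leaf lf665) (.node 13312 (.leaf lf666) (.leaf lf667))) (.node 15360 (.leaf lf668) (.node 16384 (.leaf lf669) (.leaf lf670)))) (.node 20480 (.node 18432 (.leaf lf671) (.node 19456 (.leaf lf672) (.leaf lf673))) (.node 21504 (.leaf lf674) (.node 22528 (.leaf lf675) (.leaf lf676))))))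
def letB7 : BTr := (.node 11264 (.node 5120 (.node 2048 (.node 1024 (.leaf lf677) (.leaf lf678)) (.node 3072 (.leaf lf679) (.node 4096 (.leaf lf680) (.leaf lf681)))) (.node 8192 (.node 6144 (.leaf lf682) (.node 7168 (.leaf lf683) (.leaf lf684))) (.node 9216 (.leaf lf685) (.node 10240 (.leaf lf686) (.leaf lf687))))) (.node 17408 (.node 14336 (.node 12288 (.leaf lf688) (.node 13312 (.leaf lf689) (.leaf lf690))) (.node 15360 (.leaf lf691) (.node 16384 (.leaf lf692) (.leaf lf693)))) (.node 20480 (.node 18432 (.leaf lf694) (.node 19456 (.leaf lf695) (.leaf lf696))) (.node 21504 (.leaf lf697) (.node 22528 (.leaf lf698) (.leaf lf699))))))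
def letB8 : BTr := (.node 11264 (.node 5120 (.node 2048 (.node 1024 (.leaf lf700) (.leaf lf701)) (.node 3072 (.leaf lf702) (.node 4096 (.leaf lf703) (.leaf lf704)))) (.node 8192 (.node 6144 (.leaf lf705) (.node 7168 (.leaf lf706) (.leaf lf707))) (.node 9216 (.leaf lf708) (.node 10240 (.leaf lf709) (.leaf lf710))))) (.node 17408 (.node 14336 (.node 12288 (.leaf lf711) (.node 13312 (.leaf lf712) (.leaf lf713))) (.node 15360 (.leaf lf714) (.node 16384 (.leaf lf715) (.leaf lf716)))) (.node 20480 (.node 18432 (.leaf lf717) (.node 19456 (.leaf lf718) (.leaf lf719))) (.node 21504 (.leaf lf720) (.node 22528 (.leaf lf721) (.leaf lf722))))))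
def letB9 : BTr := (.node 11264 (.node 5120 (.node 2048 (.node 1024 (.leaf lf723) (.leaf lf724)) (.node 3072 (.leaf lf725) (.node 4096 (.leaf lf726) (.leaf lf727)))) (.node 8192 (.node 6144 (.leaf lf728) (.node 7168 (.leaf lf729) (.leaf lf730))) (.node 9216 (.leaf lf731) (.node 10240 (.leaf lf732) (.leaf lf733))))) (.node 17408 (.node 14336 (.node 12288 (.leaf lf734) (.node 13312 (.leaf lf735) (.leaf lf736))) (.node 15360 (.leaf lf737) (.node 16384 (.leaf lf738) (.leaf lf739)))) (.node 20480 (.node 18432 (.leaf lf740) (.node 19456 (.leaf lf741) (.leaf lf742))) (.node 21504 (.leaf lf743) (.node 22528 (.leaf lf744) (.leaf lf745))))))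
def letB10 : BTr := (.node 11264 (.node 5120 (.node 2048 (.node 1024 (.leaf lf746) (.leaf lf747)) (.node 3072 (.leaf lf748) (.node 4096 (.leaf lf749) (.leaf lf750)))) (.node 8192 (.node 6144 (.leaf lf751) (.node 7168 (.leaf lf752) (.leaf lf753))) (.node 9216 (.leaf lf754) (.node 10240 (.leaf lf755) (.leaf lf756))))) (.node 17408 (.node 14336 (.node 12288 (.leaf lf757) (.node 13312 (.leaf lf758) (.leaf lf759))) (.node 15360 (.leaf lf760) (.node 16384 (.leaf lf761) (.leaf lf762)))) (.node 20480 (.node 18432 (.leaf lf763) (.node 19456 (.leaf lf764) (.leaf lf765))) (.node 21504 (.leaf lf766) (.node 22528 (.leaf lf767) (.leaf lf768))))))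
def letB11 : BTr := (.node 11264 (.node 5120 (.node 2048 (.node 1024 (.leaf lf769) (.leaf lf770)) (.node 3072 (.leaf lf771) (.node 4096 (.leaf lf772) (.leaf lf773)))) (.node 8192 (.node 6144 (.leaf lf774) (.node 7168 (.leaf lf775) (.leaf lf776))) (.node 9216 (.leaf lf777) (.node 10240 (.leaf lf778) (.leaf lf779))))) (.node 17408 (.node 14336 (.node 12288 (.leaf lf780) (.node 13312 (.leaf lf781) (.leaf lf782))) (.node 15360 (.leaf lf783) (.node 16384 (.leaf lf784) (.leaf lf785)))) (.node 20480 (.node 18432 (.leaf lf786) (.node 19456 (.leaf lf787) (.leaf lf788))) (.node 21504 (.leaf lf789) (.node 22528 (.leaf lf790) (.leaf lf791))))))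
def letB12 : BTr := (.node 11264 (.node 5120 (.node 2048 (.node 1024 (.leaf lf792) (.leaf lf793)) (.node 3072 (.leaf lf794) (.node 4096 (.leaf lf795) (.leaf lf796)))) (.node 8192 (.node 6144 (.leaf lf797) (.node 7168 (.leaf lf798) (.leaf lf799))) (.node 9216 (.leaf lf800) (.node 10240 (.leaf lf801) (.leaf lf802))))) (.node 17408 (.node 14336 (.node 12288 (.leaf lf803) (.node 13312 (.leaf lf804) (.leaf lf805))) (.node 15360 (.leaf lf806) (.node 16384 (.leaf lf807) (.leaf lf808)))) (.node 20480 (.node 18432 (.leaf lf809) (.node 19456 (.leaf lf810) (.leaf lf811))) (.node 21504 (.leaf lf812) (.node 22528 (.leaf lf813) (.leaf lf814))))))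
def letB13 : BTr := (.node 11264 (.node 5120 (.node 2048 (.node 1024 (.leaf lf815) (.leaf lf816)) (.node 3072 (.leaf lf817) (.node 4096 (.leaf lf818) (.leaf lf819)))) (.node 8192 (.node 6144 (.leaf lf820) (.node 7168 (.leaf lf821) (.leaf lf822))) (.node 9216 (.leaf lf823) (.node 10240 (.leaf lf824) (.leaf lf825))))) (.node 17408 (.node 14336 (.node 12288 (.leaf lf826) (.node 13312 (.leaf lf827) (.leaf lf828))) (.node 15360 (.leaf lf829) (.node 16384 (.leaf lf830) (.leaf lf831)))) (.node 20480 (.node 18432 (.leaf lf832) (.node 19456 (.leaf lf833) (.leaf lf834))) (.node 21504 (.leaf lf835) (.node 22528 (.leaf lf836) (.leaf lf837))))))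
def letL : LTr := (.node 7 (.node 3 (.node 1 (.leaf letB0) (.node 2 (.leaf letB1) (.leaf letB2))) (.node 5 (.node 4 (.leaf letB3) (.leaf letB4)) (.node 6 (.leaf letB5) (.leaf letB6)))) (.node 10 (.node 8 (.leaf letB7) (.node 9 (.leaf letB8) (.leaf letB9))) (.node 12 (.node 11 (.leaf letB10) (.leaf letB11)) (.node 13 (.leaf letB12) (.leaf letB13)))))
def wordsTr : WTr := (.node (.node (.node (.node (.node (.node (.node (.leaf [0]) (.leaf [4, 5])) (.leaf [6, 10, 6, 10])) (.node (.leaf [2, 6, 2, 6]) (.leaf [12, 0, 12, 0]))) (.node (.node (.node (.leaf [0, 4, 0, 4]) (.leaf [12, 13])) (.leaf [8, 12, 8, 12])) (.node (.leaf [4, 8, 4, 8]) (.leaf [0, 13, 11, 13, 11])))) (.node (.node (.node (.node (.leaf [10]) (.leaf [8, 9])) (.leaf [8, 4, 8, 4])) (.node (.leaf [4, 0, 4, 0]) (.leaf [12, 8, 12, 8]))) (.node (.node (.leaf [0, 12, 0, 12]) (.leaf [10, 6, 10, 6])) (.node (.leaf [6, 2, 6, 2]) (.leaf [0, 1]))))) (.node (.node (.node (.node (.node (.leaf [4]) (.leaf [6, 7])) (.leaf [8, 0, 8,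 0])) (.node (.leaf [2, 10, 2, 10, 2, 10]) (.leaf [12, 4, 12, 4]))) (.node (.node (.node (.leaf [0, 8, 0, 8]) (.leaf [])) (.leaf [10, 2, 10, 2, 10, 2])) (.node (.leaf [4, 12, 4, 12]) (.leaf [2, 10, 12, 2, 10, 12, 2, 10, 12, 2, 10, 12, 2, 10, 12])))) (.node (.node (.node (.node (.leaf [0, 0]) (.leaf [10, 11])) (.leaf [8, 8])) (.node (.leaf [4, 4]) (.leaf [12, 12]))) (.node (.node (.leaf [2, 2]) (.leaf [10, 10])) (.node (.leaf [6, 6]) (.leaf [2, 3])))))) (.node (.node (.node (.node (.node (.node (.leaf [2]) (.leaf [5, 4])) (.leaf [6, 12, 6, 12])) (.node (.leaf [2, 8, 2, 8]) (.leaf [12, 2, 12, 2, 12, 2]))) (.node (.node (.node (.leaf [0, 6, 0, 6]) (.leaf [13, 12])) (.leaf [10, 0, 10, 0])) (.node (.leaf [4, 10, 4, 10]) (.leaf [0, 2, 4, 10, 0, 2, 4, 10, 0, 2, 4, 10, 0, 2, 4, 10, 0, 2, 4, 10])))) (.node (.node (.node (.node (.leaf [12]) (.leaf [9, 8])) (.leaf [8, 6, 8, 6, 8, 6])) (.node (.leaf [4, 2, 4, 2, 4, 2]) (.leaf [12, 10, 12, 10, 12, 10, 12, 10]))) (.node (.node (.leaf [2, 0,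 2, 0, 2, 0, 2, 0, 2, 0]) (.leaf [10, 8, 10, 8])) (.node (.leaf [6, 4, 6, 4, 6, 4, 6, 4, 6, 4, 6, 4, 6, 4, 6, 4]) (.leaf [1, 0]))))) (.node (.node (.node (.node (.node (.leaf [6]) (.leaf [7, 6])) (.leaf [8, 2, 8, 2])) (.node (.leaf [2, 12, 2, 12, 2, 12]) (.leaf [12, 6, 12, 6]))) (.node (.node (.leaf [0, 10, 0, 10]) (.leaf [10, 4, 10, 4])) (.node (.leaf [6, 0, 6, 0]) (.leaf [2, 4, 6, 4, 6, 2, 4, 6, 4, 6, 2, 4, 6, 4, 6, 2, 4, 6, 4, 6, 2, 4, 6, 4, 6, 8, 2, 4, 6, 4, 6, 2, 4, 6, 4, 6, 2, 4, 6, 4, 6, 2, 4, 6, 4, 6, 2, 4, 6, 4, 6, 8, 2, 4, 6, 4, 6, 2, 4, 6, 4, 6, 2, 4, 6, 4, 6, 2, 4, 6, 4, 6, 2, 4, 6, 4, 6, 8])))) (.node (.node (.node (.node (.leaf [0, 2, 0, 2, 0, 2, 0, 2, 0, 2]) (.leaf [11, 10])) (.leaf [8, 10, 8, 10])) (.node (.leaf [4, 6, 4, 6, 4, 6, 4, 6, 4, 6, 4, 6, 4, 6, 4, 6]) (.leaf [0, 7, 5, 7, 5, 7, 5, 7, 5]))) (.node (.node (.leaf [2, 4, 2, 4, 2, 4]) (.leaf [10, 12, 10, 12, 10, 12, 10, 12])) (.node (.leaf [6, 8, 6, 8, 6, 8]) (.leaf [3, 2])))))))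
noncomputable def tabs : Tabs where
  M := 27647
  nsub := 6
  nwords := 75
  word := wordsTr.get
  defn := fun d => defsB.look 1023 48 281474976710655 d
  fact := fun k => factsB.look 1023 48 281474976710655 k
noncomputable def ptabs : PTabs where
  n := 22880
  L := 14
  perm := fun l i => (letL.get l).look 1023 15 32767 i
  fin := fun i l => finB.look 1023 24 16777215 (Nat.add (Nat.mul i 14) l)
  par := fun i => parB.look 1023 32 4294967295 i
theorem perm_eq : ∀ l i, ptabs.perm l i = (letL.get l).look 1023 15 32767 i := fun _ _ => rfl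
end Cfsg.Agent.Helper28.Suz2
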