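import Cfsg.Agent.Helper28.Suz2.Data
set_option autoImplicit false
set_option maxRecDepth 1000000
namespace Cfsg.Agent.Helper28.Suz2
open Cfsg.Agent.Helper28
theorem perm_piece_14_0 : permPiece tabs.word letL.get 1023 15 32767 20 1 0 16666 = true := by decide +kernel
theorem perm_piece_14_1 : permPiece tabs.word letL.get 1023 15 32767 20 1 16666 6214 = true := by decide +kernel
theorem perm_piece_15_0 : permPiece tabs.word letL.get 1023 15 32767 21 1 0 11111 = true := by decide +kernel
theorem perm_piece_15_1 : permPiece tabs.word letL.get 1023 15 32767 21 1 11111 11111 = true := by decide +kernel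
theorem perm_piece_15_2 : permPiece tabs.word letL.get 1023 15 32767 21 1 22222 658 = true := by decide +kernel
theorem perm_piece_16_0 : permPiece tabs.word letL.get 1023 15 32767 22 1 0 22880 = true := by decide +kernel
theorem perm_piece_17_0 : permPiece tabs.word letL.get 1023 15 32767 23 1 0 4166 = true := by decide +kernel
theorem perm_piece_17_1 : permPiece tabs.word letL.get 1023 15 32767 23 1 4166 4166 = true := by decide +kernel
theorem perm_piece_17_2 : permPiece tabs.word letL.get 1023 15 32767 23 1 8332 4166 = true := by decide +kernel
theorem perm_piece_17_3 : permPiece tabs.word letL.get 1023 15 32767 23 1 12498 4166 = true := by decide +kernel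
end Cfsg.Agent.Helper28.Suz2
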